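import Groth.Agent.RootSys.Weyl

/-!
Comparison of bases of root pairings with systems of simple roots.
-/

set_option autoImplicit false
set_option linter.unusedSectionVars false

namespace Groth.Agent.RootSys

open RootPairing Set

variable {ι R M N : Type*} [CommRing R] [CharZero R] [IsDomain R] [AddCommGroup M] [Module R M]
  [AddCommGroup N] [Module R N] {P : RootPairing ι R M N} (b : P.Base)

theorem base_isSimpleSys : RootD.IsSimpleSys P (b.support : Set ι) where
  linInd := b.linearIndepOn_root
  mem_or_neg_mem := b.root_mem_or_neg_mem

theorem base_height_eq (i : ι) : b.height i = ht (base_isSimpleSys b) i := by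
  classical
  set hΔ := base_isSimpleSys b
  have hsub := coef_support hΔ i
  have h : P.root i = ∑ j ∈ b.support, coef hΔ i j • P.root j := by
    conv_lhs => rw [← coef_lc hΔ i, Finsupp.linearCombination_apply]
    exact Finsupp.sum_of_support_subset _ (Finset.coe_subset.mp hsub) _ (fun x _ => zero_smul _ _)
  rw [b.height_eq_sum h, ht]
  exact (Finsupp.sum_of_support_subset (coef hΔ i) (Finset.coe_subset.mp hsub) (fun _ a => a)
    (fun x _ => rfl)).symm

theorem base_isPos_iff (i : ι) :
    b.IsPos i ↔ i ∈ RootD.posOf P (b.support : Set ι) := by
  rw [pos_iff_one_le_ht (base_isSimpleSys b), ← base_height_eq, RootPairing.Base.isPos_iff]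
  omega

end Groth.Agent.RootSys
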