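import Groth.Prelude.Def_W4sga3xxiRoot
import Mathlib.LinearAlgebra.RootSystem.BaseExists
import Mathlib.LinearAlgebra.RootSystem.WeylGroup

/-!
Basic lemmas on finite crystallographic root pairings, not assumed reduced.
-/

set_option autoImplicit false
set_option linter.unusedSectionVars false

namespace Groth.Agent.RootSys

open RootPairing Set

variable {ι R M N : Type*} [CommRing R] [AddCommGroup M] [Module R M] [AddCommGroup N] [Module R N]
  {P : RootPairing ι R M N}

theorem isTorsionFree_weight (P : RootPairing ι R M N) [IsDomain R] : Module.IsTorsionFree R M :=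
  have : Module.IsReflexive R M := .of_isPerfPair P.toLinearMap
  inferInstance

theorem isTorsionFree_coweight (P : RootPairing ι R M N) [IsDomain R] : Module.IsTorsionFree R N :=
  isTorsionFree_weight P.flip

theorem isAddTorsionFree_weight (P : RootPairing ι R M N) [IsDomain R] [CharZero R] : IsAddTorsionFree M :=
  have := isTorsionFree_weight P
  .of_isTorsionFree R M

theorem isAddTorsionFree_coweight (P : RootPairing ι R M N) [IsDomain R] [CharZero R] : IsAddTorsionFree N :=
  isAddTorsionFree_weight P.flip

theorem zsmul_weight_inj [IsDomain R] [CharZero R] (P : RootPairing ι R M N) {n : ℤ} {x y : M}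
    (hn : n ≠ 0) (h : n • x = n • y) : x = y := by
  have := isAddTorsionFree_weight P
  exact zsmul_right_injective hn h

/-! ### Automorphisms -/

theorem smul_eq_weightHom (g : P.Aut) (m : M) :
    g • m = RootPairing.Equiv.weightHom P g m := rfl

theorem root_smul (g : P.Aut) (i : ι) : P.root (g • i) = g • P.root i :=
  RootPairing.Equiv.root_indexEquiv_eq_smul P i g

@[simp] theorem smul_index_reflection (i j : ι) :
    RootPairing.Equiv.reflection P i • j = P.reflectionPerm i j := rfl

theorem coroot'_smul (g : P.Aut) (j : ι) (m : M) : P.coroot' (g • j) (g • m) = P.coroot' j m := by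
  have h := RootPairing.Hom.weight_coweight_transpose_apply P P (P.coroot (g • j)) g.toHom
  have h' := LinearMap.congr_fun h m
  have e : g.toHom.coweightMap (P.coroot (g • j)) = P.coroot j := by
    rw [RootPairing.Hom.coroot_coweightMap_apply]
    exact congrArg P.coroot (g.toHom.indexEquiv.symm_apply_apply j)
  rw [e] at h'
  exact h'

theorem aut_ext {g h : P.Aut} (H : ∀ m : M, g • m = h • m) : g = h :=
  RootPairing.Equiv.weightHom_injective P (LinearEquiv.ext H)

theorem smul_sub' (g : P.Aut) (x y : M) : g • (x - y) = g • x - g • y :=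
  map_sub (RootPairing.Equiv.weightHom P g) x y

theorem smul_smul' (g : P.Aut) (r : R) (x : M) : g • (r • x) = r • (g • x) :=
  map_smul (RootPairing.Equiv.weightHom P g) r x

theorem smul_zsmul' (g : P.Aut) (n : ℤ) (x : M) : g • (n • x) = n • (g • x) :=
  map_zsmul (RootPairing.Equiv.weightHom P g) n x

theorem smul_neg' (g : P.Aut) (x : M) : g • (-x) = -(g • x) :=
  map_neg (RootPairing.Equiv.weightHom P g) x

theorem conj_reflection (u : P.Aut) (i : ι) :
    u * RootPairing.Equiv.reflection P i * u⁻¹ = RootPairing.Equiv.reflection P (u • i) := by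
  refine aut_ext fun m => ?_
  have hm : m = u • (u⁻¹ • m) := (smul_inv_smul u m).symm
  simp only [mul_smul, RootPairing.Equiv.reflection_smul, reflection_apply]
  rw [smul_sub', smul_smul', smul_inv_smul, root_smul]
  congr 2
  conv_rhs => rw [hm]
  exact (coroot'_smul u i _).symm

theorem reflection_mul_self (i : ι) :
    RootPairing.Equiv.reflection P i * RootPairing.Equiv.reflection P i = 1 := by
  rw [mul_eq_one_iff_eq_inv, RootPairing.Equiv.reflection_inv]

/-! ### Negation -/

theorem root_neg (i : ι) : P.root (P.reflectionPerm i i) = -P.root i := by simp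

theorem neg_neg_index (i : ι) :
    P.reflectionPerm (P.reflectionPerm i i) (P.reflectionPerm i i) = i :=
  P.root.injective (by rw [root_neg, root_neg, neg_neg])

theorem eq_neg_of_root_eq_neg {i j : ι} (h : P.root j = -P.root i) : j = P.reflectionPerm i i :=
  P.root.injective (by rw [h, root_neg])

theorem smul_neg_index (g : P.Aut) (i : ι) :
    g • P.reflectionPerm i i = P.reflectionPerm (g • i) (g • i) :=
  P.root.injective (by rw [root_smul, root_neg, root_neg, root_smul, smul_neg'])

theorem reflection_neg_index (i : ι) :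
    RootPairing.Equiv.reflection P (P.reflectionPerm i i) = RootPairing.Equiv.reflection P i := by
  have h := conj_reflection (RootPairing.Equiv.reflection P i) i
  rw [smul_index_reflection] at h
  rw [← h, RootPairing.Equiv.reflection_inv, mul_assoc, reflection_mul_self, mul_one]

/-! ### Crystallographic integers -/

section Crystallographic

variable [P.IsCrystallographic]

theorem pairing_eq_cast (i j : ι) : P.pairing i j = (P.pairingIn ℤ i j : R) := by
  rw [← P.algebraMap_pairingIn ℤ i j]; rfl

theorem coroot'_root (i j : ι) : P.coroot' i (P.root j) = (P.pairingIn ℤ j i : R) := by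
  rw [root_coroot'_eq_pairing, pairing_eq_cast]

theorem root_refl (i j : ι) :
    P.root (P.reflectionPerm i j) = P.root j - P.pairingIn ℤ j i • P.root i := by
  rw [root_reflectionPerm, reflection_apply_root' ℤ]

theorem pairing_smul_smul (g : P.Aut) (i j : ι) : P.pairing (g • i) (g • j) = P.pairing i j := by
  rw [← root_coroot'_eq_pairing, root_smul, coroot'_smul, root_coroot'_eq_pairing]

variable [CharZero R]

theorem pairingIn_smul_smul (g : P.Aut) (i j : ι) :
    P.pairingIn ℤ (g • i) (g • j) = P.pairingIn ℤ i j := by
  have h := pairing_smul_smul g i j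
  rw [pairing_eq_cast, pairing_eq_cast] at h
  exact_mod_cast h

variable [IsDomain R]

/-- Two roots related by an integral linear relation. -/
theorem proportional_cases {i j : ι} {a b : ℤ} (hb : b ≠ 0) (h : b • P.root j = a • P.root i) :
    a ≠ 0 ∧ (P.root j = P.root i ∨ P.root j = -P.root i ∨ P.root j = (2 : ℤ) • P.root i ∨
      P.root j = (-2 : ℤ) • P.root i ∨ P.root i = (2 : ℤ) • P.root j ∨
      P.root i = (-2 : ℤ) • P.root j) := by
  set x := P.pairingIn ℤ j i
  set y := P.pairingIn ℤ i j
  have h1 : b * x = a * 2 := by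
    have := congrArg (P.coroot' i) h
    rw [map_zsmul, map_zsmul, coroot'_root, coroot'_root, zsmul_eq_mul, zsmul_eq_mul,
      pairingIn_same] at this
    exact_mod_cast this
  have h2 : b * 2 = a * y := by
    have := congrArg (P.coroot' j) h
    rw [map_zsmul, map_zsmul, coroot'_root, coroot'_root, zsmul_eq_mul, zsmul_eq_mul,
      pairingIn_same] at this
    exact_mod_cast this
  have ha : a ≠ 0 := by rintro rfl; omega
  refine ⟨ha, ?_⟩
  have hxy : x * y = 4 := by
    have : (b * a) * (x * y) = (b * a) * 4 := by linear_combination (a * y) * h1 - 2 * a * h2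
    exact mul_left_cancel₀ (mul_ne_zero hb ha) this
  have hrel : x • P.root i = (2 : ℤ) • P.root j := by
    refine zsmul_weight_inj P hb ?_
    rw [smul_smul, h1, mul_smul, smul_comm b (2 : ℤ) (P.root j), h, smul_comm]
  have hdvd : x ∣ 4 := ⟨y, hxy.symm⟩
  have hle : x ≤ 4 := Int.le_of_dvd (by norm_num) hdvd
  have hge : -x ≤ 4 := Int.le_of_dvd (by norm_num) ((Int.neg_dvd).mpr hdvd)
  have hge' : -4 ≤ x := by omega
  have two : (2 : ℤ) ≠ 0 := by norm_num
  interval_cases x
  · exact Or.inr (Or.inr (Or.inr (Or.inl (zsmul_weight_inj P two (by rw [← hrel, smul_smul]; norm_num)))))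
  · norm_num at hdvd
  · exact Or.inr (Or.inl (zsmul_weight_inj P two (by rw [← hrel]; module)))
  · right; right; right; right; right
    have : P.root i = -((-1 : ℤ) • P.root i) := by module
    rw [this, hrel]; module
  · omega
  · right; right; right; right; left
    rw [← hrel]; module
  · exact Or.inl (zsmul_weight_inj P two hrel.symm)
  · norm_num at hdvd
  · exact Or.inr (Or.inr (Or.inl (zsmul_weight_inj P two (by rw [← hrel, smul_smul]; norm_num))))

omit [P.IsCrystallographic] [CharZero R] [IsDomain R] in
theorem isIndiv_iff {i : ι} : RootD.IsIndiv P i ↔ ∀ j : ι, (2 : ℤ) • P.root j ≠ P.root i := by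
  refine forall_congr' fun j => ?_
  rw [two_smul, two_smul]

/-- An indivisible root only divides `±` itself and `±` its double. -/
theorem indiv_proportional {i j : ι} (hi : RootD.IsIndiv P i) {a b : ℤ} (hb : b ≠ 0)
    (h : b • P.root j = a • P.root i) :
    ∃ c : ℤ, (c = 1 ∨ c = -1 ∨ c = 2 ∨ c = -2) ∧ P.root j = c • P.root i ∧ a = b * c := by
  rw [isIndiv_iff] at hi
  obtain ⟨ha, hc⟩ := proportional_cases hb h
  obtain ⟨c, hc', hcj⟩ : ∃ c : ℤ, (c = 1 ∨ c = -1 ∨ c = 2 ∨ c = -2) ∧
      P.root j = c • P.root i := by
    rcases hc with hc | hc | hc | hc | hc | hc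
    · exact ⟨1, by simp, by rw [hc, one_smul]⟩
    · exact ⟨-1, by simp, by rw [hc]; module⟩
    · exact ⟨2, by simp, hc⟩
    · exact ⟨-2, by simp, hc⟩
    · exact absurd hc.symm (hi j)
    · refine absurd ?_ (hi (P.reflectionPerm j j))
      rw [root_neg, hc]; module
  refine ⟨c, hc', hcj, ?_⟩
  rw [hcj, smul_smul] at h
  have := isAddTorsionFree_weight P
  have hne : P.root i ≠ 0 := P.ne_zero i
  by_contra hne'
  have h0 : (a - b * c) • P.root i = 0 := by rw [sub_smul, h, sub_self]
  exact hne ((smul_eq_zero.mp h0).resolve_left (by omega))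

omit [CharZero R] [IsDomain R] [P.IsCrystallographic] in
theorem isIndiv_smul_iff (g : P.Aut) (i : ι) : RootD.IsIndiv P (g • i) ↔ RootD.IsIndiv P i := by
  have key : ∀ (g : P.Aut) (i : ι), RootD.IsIndiv P i → RootD.IsIndiv P (g • i) := by
    intro g i h
    rw [isIndiv_iff] at h ⊢
    intro j hj
    refine h (g⁻¹ • j) ?_
    rw [root_smul, ← smul_zsmul', hj, root_smul, inv_smul_smul]
  refine ⟨fun h => ?_, key g i⟩
  simpa using key g⁻¹ _ h

omit [P.IsCrystallographic] [CharZero R] [IsDomain R] in
theorem isIndiv_neg {i : ι} (h : RootD.IsIndiv P i) : RootD.IsIndiv P (P.reflectionPerm i i) := by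
  have := (isIndiv_smul_iff (RootPairing.Equiv.reflection P i) i).mpr h
  simpa using this

/-- Every root is an indivisible root or twice one. -/
theorem exists_indiv (i : ι) :
    ∃ j : ι, RootD.IsIndiv P j ∧ (P.root i = P.root j ∨ P.root i = (2 : ℤ) • P.root j) := by
  by_cases hi : RootD.IsIndiv P i
  · exact ⟨i, hi, Or.inl rfl⟩
  rw [isIndiv_iff] at hi
  push Not at hi
  obtain ⟨j, hj⟩ := hi
  refine ⟨j, ?_, Or.inr hj.symm⟩
  rw [isIndiv_iff]
  intro l hl
  have h4 : (4 : ℤ) • P.root l = (1 : ℤ) • P.root i := by
    rw [← hj, ← hl, one_smul, smul_smul]; norm_num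
  have := isAddTorsionFree_weight P
  have hne : P.root l ≠ 0 := P.ne_zero l
  have h4' : P.root i = (4 : ℤ) • P.root l := by rw [h4, one_smul]
  have key : ∀ c : ℤ, c • P.root l = 0 → c = 0 := fun c hc =>
    (smul_eq_zero.mp hc).resolve_right hne
  rcases (proportional_cases (by norm_num) h4).2 with h | h | h | h | h | h <;>
    rw [h4'] at h
  · have := key 3 (by linear_combination (norm := module) -h); omega
  · have := key 5 (by linear_combination (norm := module) h); omega
  · have := key 7 (by linear_combination (norm := module) -h); omega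
  · have := key 9 (by linear_combination (norm := module) h); omega
  · have := key 2 (by linear_combination (norm := module) h); omega
  · have := key 6 (by linear_combination (norm := module) h); omega

theorem reflection_eq_of_two_smul [Finite ι] {i j : ι} (h : P.root i = (2 : ℤ) • P.root j) :
    RootPairing.Equiv.reflection P i = RootPairing.Equiv.reflection P j := by
  have := isAddTorsionFree_coweight P
  have h' : P.root i = (2 : R) • P.root j := by
    rw [h, two_smul, two_smul]
  have hc := P.smul_coroot_eq_of_root_eq_smul j i (2 : R) h'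
  refine aut_ext fun m => ?_
  simp only [RootPairing.Equiv.reflection_smul, reflection_apply, LinearMap.flip_apply]
  rw [← hc, map_smul, h', smul_smul, smul_eq_mul, mul_comm]

theorem exists_indiv_reflection [Finite ι] (i : ι) :
    ∃ j : ι, RootD.IsIndiv P j ∧ (P.root i = P.root j ∨ P.root i = (2 : ℤ) • P.root j) ∧
      RootPairing.Equiv.reflection P i = RootPairing.Equiv.reflection P j := by
  obtain ⟨j, hj, hc⟩ := exists_indiv (P := P) i
  refine ⟨j, hj, hc, ?_⟩
  rcases hc with h | h
  · rw [P.root.injective h]
  · exact reflection_eq_of_two_smul h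

/-- If a positive multiple of a root is a non-negative combination of roots, one of the roots
occurring pairs positively with it. -/
theorem exists_pos_pairing (c : ι →₀ ℤ) (hc : ∀ l, 0 ≤ c l) {n : ℤ} (hn : 0 < n) {k : ι}
    (h : n • P.root k = Finsupp.linearCombination ℤ P.root c) :
    ∃ l : ι, 0 < c l ∧ 0 < P.pairingIn ℤ l k := by
  by_contra! H
  have := congrArg (P.coroot' k) h
  rw [Finsupp.linearCombination_apply, map_zsmul, map_finsuppSum] at this
  simp only [map_zsmul, coroot'_root, zsmul_eq_mul, pairingIn_same, Finsupp.sum] at this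
  have e : n * 2 = ∑ l ∈ c.support, c l * P.pairingIn ℤ l k := by exact_mod_cast this
  have : ∑ l ∈ c.support, c l * P.pairingIn ℤ l k ≤ 0 := by
    refine Finset.sum_nonpos fun l hl => ?_
    have hl' : 0 < c l := lt_of_le_of_ne (hc l) (Ne.symm (Finsupp.mem_support_iff.mp hl))
    exact mul_nonpos_of_nonneg_of_nonpos (hc l) (H l hl')
  omega

/-- An element of the span of the roots killed by all coroots is zero. -/
theorem eq_zero_of_forall_coroot'_eq_zero [Finite ι] {x : M} (hx : x ∈ P.rootSpan R)
    (h : ∀ j, P.coroot' j x = 0) : x = 0 := by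
  have := Fintype.ofFinite ι
  have hker : x ∈ LinearMap.ker P.RootForm := by
    rw [LinearMap.mem_ker]
    refine LinearMap.ext fun y => ?_
    rw [rootForm_apply_apply, LinearMap.zero_apply]
    refine Finset.sum_eq_zero fun j _ => ?_
    rw [h j, zero_mul]
  have h' : x ∈ P.rootSpan R ⊓ LinearMap.ker P.RootForm := ⟨hx, hker⟩
  rw [P.disjoint_rootSpan_ker_rootForm.eq_bot] at h'
  simpa using h'

omit [P.IsCrystallographic] [CharZero R] [IsDomain R] in
theorem weyl_smul_sub_mem {g : P.Aut} (hg : g ∈ P.weylGroup) (m : M) :
    g • m - m ∈ P.rootSpan R := by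
  induction hg using RootPairing.weylGroup.induction generalizing m with
  | mem i =>
    rw [RootPairing.Equiv.reflection_smul, reflection_apply, sub_sub_cancel_left]
    exact neg_mem (Submodule.smul_mem _ _ (Submodule.subset_span (mem_range_self i)))
  | one => simp
  | mul x y hx hy ihx ihy =>
    rw [mul_smul]
    have : x • y • m - m = (x • y • m - y • m) + (y • m - m) := by abel
    rw [this]
    exact add_mem (ihx _) (ihy _)

/-- An automorphism fixing all roots and moving every weight inside the rational span of the roots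
is trivial. -/
theorem aut_eq_one_of_fix [Finite ι] (u : P.Aut)
    (hs : ∀ m : M, ∃ n : ℕ, 0 < n ∧ n • (u • m - m) ∈ P.rootSpan R)
    (hfix : ∀ i : ι, u • i = i) : u = 1 := by
  refine aut_ext fun m => ?_
  rw [one_smul]
  obtain ⟨n, hn, hmem⟩ := hs m
  have h0 : n • (u • m - m) = 0 := by
    refine eq_zero_of_forall_coroot'_eq_zero hmem fun j => ?_
    have := coroot'_smul u j m
    rw [hfix j] at this
    rw [map_nsmul, map_sub, this, sub_self, smul_zero]
  have := isAddTorsionFree_weight P
  rw [smul_eq_zero] at h0
  exact sub_eq_zero.mp (h0.resolve_left (by omega))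

theorem weyl_eq_one_of_fix [Finite ι] {g : P.Aut} (hg : g ∈ P.weylGroup)
    (hfix : ∀ i : ι, g • i = i) : g = 1 :=
  aut_eq_one_of_fix g (fun m => ⟨1, one_pos, by simpa using weyl_smul_sub_mem hg m⟩) hfix

end Crystallographic

end Groth.Agent.RootSys
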