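import Groth.Agent.RootSys.Exists

/-!
Criteria for systems of simple roots, and auxiliary facts on spans of simple roots.
-/

set_option autoImplicit false
set_option linter.unusedSectionVars false

namespace Groth.Agent.RootSys

open RootPairing Set

variable {ι M N : Type*} [AddCommGroup M] [AddCommGroup N] {P : RootPairing ι ℤ M N} [Finite ι]
  {Δ : Set ι}

theorem mem_inSpan_iff (hΔ : RootD.IsSimpleSys P Δ) {Δ' : Set ι} (hsub : Δ' ⊆ Δ) {k : ι} :
    k ∈ RootD.inSpan P Δ' ↔ ∀ l ∉ Δ', coef hΔ k l = 0 := by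
  refine ⟨fun h l hl => ?_, fun h => ?_⟩
  · obtain ⟨c, hc, hck⟩ := (Finsupp.mem_span_image_iff_linearCombination ℤ).mp
      (show P.root k ∈ Submodule.span ℤ (P.root '' Δ') from h)
    rw [Finsupp.mem_supported] at hc
    rw [coef_eq hΔ (hc.trans hsub) hck]
    exact Finsupp.notMem_support_iff.mp fun h' => hl (hc h')
  · refine (Finsupp.mem_span_image_iff_linearCombination ℤ).mpr ⟨coef hΔ k, ?_, coef_lc hΔ k⟩
    rw [Finsupp.mem_supported]
    intro l hl
    by_contra hl'
    exact Finsupp.mem_support_iff.mp hl (h l hl')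

theorem mem_inSpan_iff_smul (hΔ : RootD.IsSimpleSys P Δ) {Δ' : Set ι} (hsub : Δ' ⊆ Δ) {k : ι} :
    k ∈ RootD.inSpan P Δ' ↔ ∃ n : ℕ, 0 < n ∧ n • P.root k ∈ Submodule.span ℤ (P.root '' Δ') := by
  refine ⟨fun h => ⟨1, one_pos, by rw [one_smul]; exact h⟩, ?_⟩
  rintro ⟨n, hn, h⟩
  obtain ⟨c, hc, hck⟩ := (Finsupp.mem_span_image_iff_linearCombination ℤ).mp h
  rw [Finsupp.mem_supported] at hc
  rw [mem_inSpan_iff hΔ hsub]
  intro l hl
  have h1 : (n : ℤ) • coef hΔ k = c := rep_unique hΔ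
    ((Finset.coe_subset.mpr Finsupp.support_smul).trans (coef_support hΔ k)) (hc.trans hsub)
    (by rw [map_smul, coef_lc, hck, natCast_zsmul])
  have h2 : (n : ℤ) * coef hΔ k l = 0 := by
    rw [← smul_eq_mul, ← Finsupp.smul_apply, h1]
    exact Finsupp.notMem_support_iff.mp fun h' => hl (hc h')
  exact (mul_eq_zero.mp h2).resolve_left (by omega)

/-- Indivisible linearly independent roots whose rational cone contains each root up to sign form
a system of simple roots. -/
theorem isSimpleSys_of_cone (hind : ∀ i ∈ Δ, RootD.IsIndiv P i) (hli : LinearIndepOn ℤ P.root Δ)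
    (hcone : ∀ k : ι, ∃ n : ℕ, 0 < n ∧
      (n • P.root k ∈ RootD.natSpan P Δ ∨ n • (-P.root k) ∈ RootD.natSpan P Δ)) :
    RootD.IsSimpleSys P Δ := by
  classical
  have := isAddTorsionFree_weight P
  have huniq : ∀ c : ι →₀ ℤ, ↑c.support ⊆ Δ → Finsupp.linearCombination ℤ P.root c = 0 →
      c = 0 := fun c hc h => linearIndepOn_iff.mp hli c (by rwa [Finsupp.mem_supported]) h
  have hcomb : ∀ (a b : ℤ) (c d : ι →₀ ℤ), ↑c.support ⊆ Δ → ↑d.support ⊆ Δ →
      (↑(a • c + b • d).support : Set ι) ⊆ Δ := by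
    intro a b c d hc hd l hl
    rcases Finset.mem_union.mp (Finsupp.support_add hl) with h | h
    exacts [hc (Finsupp.support_smul h), hd (Finsupp.support_smul h)]
  have hsat : ∀ (n : ℕ) (k : ι), n • P.root k ∈ RootD.natSpan P Δ → ∀ m : ℕ,
      (m * n) • P.root k ∈ RootD.natSpan P Δ := fun n k h m => by
    rw [mul_smul]; exact AddSubmonoid.nsmul_mem _ h m
  set S : Set ι := {k | ∃ n : ℕ, 0 < n ∧ n • P.root k ∈ RootD.natSpan P Δ} with hS
  have hP1 : ∀ i ∈ S, P.reflectionPerm i i ∉ S := by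
    rintro i ⟨n, hn, hi⟩ ⟨m, hm, hi'⟩
    obtain ⟨c, hc1, hc2, hc3⟩ := mem_natSpan_iff.mp hi
    obtain ⟨d, hd1, hd2, hd3⟩ := mem_natSpan_iff.mp hi'
    have h0 : (m : ℤ) • c + (n : ℤ) • d = 0 := huniq _ (hcomb _ _ _ _ hc1 hd1) (by
      rw [map_add, map_smul, map_smul, hc3, hd3, root_neg]; module)
    have hc0 : c = 0 := by
      ext l
      have := congrArg (fun f : ι →₀ ℤ => f l) h0
      simp at this
      have h1 : 0 ≤ (m : ℤ) * c l := mul_nonneg (by positivity) (hc2 l)
      have h2 : 0 ≤ (n : ℤ) * d l := mul_nonneg (by positivity) (hd2 l)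
      have h3 : (m : ℤ) * c l = 0 := by omega
      simpa using (mul_eq_zero.mp h3).resolve_left (by omega)
    rw [hc0, map_zero] at hc3
    exact P.ne_zero i ((smul_eq_zero.mp hc3.symm).resolve_left hn.ne')
  have hP2 : ∀ i : ι, i ∈ S ∨ P.reflectionPerm i i ∈ S := fun i => by
    obtain ⟨n, hn, h | h⟩ := hcone i
    · exact Or.inl ⟨n, hn, h⟩
    · exact Or.inr ⟨n, hn, by rwa [root_neg]⟩
  have hcl : RootD.IsClosedSub P S := by
    rintro i j k ⟨n, hn, hi⟩ ⟨m, hm, hj⟩ hk
    refine ⟨m * n, Nat.mul_pos hm hn, ?_⟩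
    rw [hk, smul_add]
    refine AddSubmonoid.add_mem _ (hsat n i hi m) ?_
    rw [mul_comm m n]; exact hsat m j hj n
  obtain ⟨Δ₀, hΔ₀, hpos⟩ := exists_simpleSys_of_isPosSys (isPosSys_iff.mpr ⟨hP1, hP2, hcl⟩)
  have hsubS : ∀ i ∈ Δ, i ∈ S := fun i hi =>
    ⟨1, one_pos, by rw [one_smul]; exact AddSubmonoid.subset_closure (mem_image_of_mem _ hi)⟩
  have hsub : Δ ⊆ Δ₀ := by
    intro i hi
    rw [mem_simple_iff_not_sum hΔ₀ (hpos ▸ hsubS i hi), hpos]
    rintro ⟨a, b, ⟨n, hn, ha⟩, ⟨m, hm, hb⟩, he⟩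
    obtain ⟨c, hc1, hc2, hc3⟩ := mem_natSpan_iff.mp ha
    obtain ⟨d, hd1, hd2, hd3⟩ := mem_natSpan_iff.mp hb
    have hsi : (↑(Finsupp.single i (1 : ℤ)).support : Set ι) ⊆ Δ := fun l hl =>
      Finset.mem_singleton.mp (Finsupp.support_single_subset hl) ▸ hi
    have h0 : (1 : ℤ) • ((m : ℤ) • c + (n : ℤ) • d) +
        (-((m * n : ℕ) : ℤ)) • Finsupp.single i (1 : ℤ) = 0 := by
      refine huniq _ (hcomb _ _ _ _ (hcomb _ _ _ _ hc1 hd1) hsi) ?_
      simp only [map_add, map_smul, hc3, hd3, Finsupp.linearCombination_single, one_smul]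
      rw [he, Nat.cast_mul]; module
    have hl0 : ∀ l, l ≠ i → c l = 0 ∧ d l = 0 := fun l hl => by
      have h := congrArg (fun f : ι →₀ ℤ => f l) h0
      simp [Finsupp.single_eq_of_ne hl] at h
      have h1 : 0 ≤ (m : ℤ) * c l := mul_nonneg (by positivity) (hc2 l)
      have h2 : 0 ≤ (n : ℤ) * d l := mul_nonneg (by positivity) (hd2 l)
      exact ⟨(mul_eq_zero.mp (show (m : ℤ) * c l = 0 by omega)).resolve_left (by omega),
        (mul_eq_zero.mp (show (n : ℤ) * d l = 0 by omega)).resolve_left (by omega)⟩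
    have key : ∀ (a : ι) (n : ℕ) (c : ι →₀ ℤ), 0 < n → (∀ l, l ≠ i → c l = 0) →
        (∀ l, 0 ≤ c l) → Finsupp.linearCombination ℤ P.root c = n • P.root a →
        ∃ t : ℤ, 1 ≤ t ∧ P.root a = t • P.root i := by
      intro a n c hn hl hc hca
      have hc' : c = Finsupp.single i (c i) := by
        ext l
        by_cases h : l = i
        · subst h; simp
        · simp [hl l h, Finsupp.single_eq_of_ne h]
      rw [hc', Finsupp.linearCombination_single, ← natCast_zsmul] at hca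
      obtain ⟨t, ht, hta, hct⟩ := indiv_proportional (hind i hi)
        (b := (n : ℤ)) (by omega) hca.symm
      refine ⟨t, ?_, hta⟩
      have := hc i
      rcases ht with rfl | rfl | rfl | rfl <;> omega
    obtain ⟨t, ht, hta⟩ := key a n c hn (fun l hl => (hl0 l hl).1) hc2 hc3
    obtain ⟨s, hs, hsb⟩ := key b m d hm (fun l hl => (hl0 l hl).2) hd2 hd3
    rw [hta, hsb, ← add_smul] at he
    have : (1 - (t + s)) • P.root i = 0 := by rw [sub_smul, one_smul, ← he, sub_self]
    have := (smul_eq_zero.mp this).resolve_right (P.ne_zero i)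
    omega
  have hsup : Δ₀ ⊆ Δ := by
    intro x hx
    obtain ⟨n, hn, h⟩ := (hpos ▸ simple_pos hΔ₀ hx : x ∈ S)
    obtain ⟨c, hc1, _, hc3⟩ := mem_natSpan_iff.mp h
    by_contra hxΔ
    have h1 : (n : ℤ) • Finsupp.single x (1 : ℤ) = c := rep_unique hΔ₀
      (fun l hl => Finset.mem_singleton.mp
        (Finsupp.support_single_subset (Finsupp.support_smul hl)) ▸ hx)
      (hc1.trans hsub) (by rw [map_smul, Finsupp.linearCombination_single, one_smul, hc3, natCast_zsmul])
    have h2 : c x = 0 := Finsupp.notMem_support_iff.mp fun h' => hxΔ (hc1 h')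
    rw [← h1] at h2
    simp at h2
    omega
  exact hsub.antisymm hsup ▸ hΔ₀

/-- Roots split by a closed symmetric partition. -/
theorem partition_add {R' : Set ι} (hc : RootD.IsClosedSub P R') (hs : RootD.IsSymmSub P R')
    (hc' : RootD.IsClosedSub P R'ᶜ) (hs' : RootD.IsSymmSub P R'ᶜ) {i j k : ι}
    (h : P.root k = P.root i + P.root j) :
    (i ∈ R' ∧ j ∈ R' ∧ k ∈ R') ∨ (i ∉ R' ∧ j ∉ R' ∧ k ∉ R') := by
  have hi : P.root i = P.root k + P.root (P.reflectionPerm j j) := by rw [root_neg, h]; abel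
  have hj : P.root j = P.root k + P.root (P.reflectionPerm i i) := by rw [root_neg, h]; abel
  by_cases h1 : i ∈ R' <;> by_cases h2 : j ∈ R' <;> by_cases h3 : k ∈ R'
  · exact Or.inl ⟨h1, h2, h3⟩
  · exact absurd (hc h1 h2 h) h3
  · exact absurd (hc h3 (hs h1) hj) h2
  · exact absurd (hc' h3 (hs' h2) hi) (fun h' => h' h1)
  · exact absurd (hc h3 (hs h2) hi) h1
  · exact absurd (hc' h3 (hs' h1) hj) (fun h' => h' h2)
  · exact absurd (hc' h1 h2 h) (fun h' => h' h3)
  · exact Or.inr ⟨h1, h2, h3⟩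

theorem partition_mem_of_not_orthogonal {R' : Set ι} (hc : RootD.IsClosedSub P R')
    (hs : RootD.IsSymmSub P R') (hc' : RootD.IsClosedSub P R'ᶜ) (hs' : RootD.IsSymmSub P R'ᶜ)
    {i j : ι} (hi : i ∈ R') (hij : ¬ P.IsOrthogonal i j) : j ∈ R' := by
  by_contra hj
  have hne : i ≠ j := fun h => hj (h ▸ hi)
  have hne' : P.root i ≠ -P.root j := fun h =>
    (hs' hj) (eq_neg_of_root_eq_neg h ▸ hi)
  have h0 : P.pairingIn ℤ i j ≠ 0 := by
    intro h
    have h' : P.pairing i j = 0 := by rw [pairing_eq_cast, h, Int.cast_zero]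
    exact hij ⟨h', P.pairing_eq_zero_iff'.mp h'⟩
  rcases lt_or_gt_of_ne h0 with h | h
  · obtain ⟨k, hk⟩ := P.root_add_root_mem_of_pairingIn_neg h hne'
    rcases partition_add hc hs hc' hs' hk with ⟨_, h2, _⟩ | ⟨h1, _, _⟩
    exacts [hj h2, h1 hi]
  · obtain ⟨k, hk⟩ := P.root_sub_root_mem_of_pairingIn_pos h hne
    rcases partition_add hc hs hc' hs' (k := i) (i := k) (j := j) (by rw [hk]; abel) with
      ⟨_, h2, _⟩ | ⟨_, _, h3⟩
    exacts [hj h2, h3 hi]

/-- For a closed set containing the positive roots, the opposite of a positive root lies in it iff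
the opposites of the simple roots in its support do. -/
theorem closed_superset_eq (hΔ : RootD.IsSimpleSys P Δ) {Q : Set ι}
    (hcl : RootD.IsClosedSub P Q) (hSP : RootD.posOf P Δ ⊆ Q) :
    Q = RootD.posOf P Δ ∪
      {k : ι | -P.root k ∈ RootD.natSpan P {i : ι | i ∈ Δ ∧ P.reflectionPerm i i ∈ Q}} := by
  set Δ' := {i : ι | i ∈ Δ ∧ P.reflectionPerm i i ∈ Q}
  have fwd : ∀ k, k ∈ RootD.posOf P Δ →
      P.reflectionPerm k k ∈ Q → P.root k ∈ RootD.natSpan P Δ' := by
    intro k hk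
    refine pos_induction hΔ (p := fun k => P.reflectionPerm k k ∈ Q →
      P.root k ∈ RootD.natSpan P Δ') ?_ ?_ hk
    · exact fun i hi h => AddSubmonoid.subset_closure ⟨i, ⟨hi, h⟩, rfl⟩
    · intro i j k hi hj he ih h
      have h1 : P.reflectionPerm i i ∈ Q :=
        hcl h (hSP hj) (by rw [root_neg, root_neg, he]; abel)
      have h2 : P.reflectionPerm j j ∈ Q :=
        hcl h (hSP (simple_pos hΔ hi)) (by rw [root_neg, root_neg, he]; abel)
      rw [he]
      exact AddSubmonoid.add_mem _ (ih h2) (AddSubmonoid.subset_closure ⟨i, ⟨hi, h1⟩, rfl⟩)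
  have bwd : ∀ k, k ∈ RootD.posOf P Δ → (∀ l, 0 < coef hΔ k l → l ∈ Δ') →
      P.reflectionPerm k k ∈ Q := by
    intro k hk
    refine pos_induction hΔ (p := fun k => (∀ l, 0 < coef hΔ k l → l ∈ Δ') →
      P.reflectionPerm k k ∈ Q) ?_ ?_ hk
    · exact fun i hi h => (h i (by simp [coef_simple hΔ hi])).2
    · intro i j k hi hj he ih h
      have hck : ∀ l, coef hΔ k l = coef hΔ j l + coef hΔ i l := fun l => by
        rw [coef_add hΔ he, Finsupp.add_apply]
      refine hcl (ih fun l hl => h l ?_) (h i ?_).2 (by rw [root_neg, root_neg, root_neg, he]; abel)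
      · have := (mem_posOf_iff hΔ).mp (simple_pos hΔ hi) l
        rw [hck]; omega
      · have := (mem_posOf_iff hΔ).mp hj i
        rw [hck, coef_simple hΔ hi, Finsupp.single_eq_same]; omega
  ext k
  refine ⟨fun hk => ?_, ?_⟩
  · rcases pos_or_neg hΔ k with h | h
    · exact Or.inl h
    · refine Or.inr ?_
      have := fwd _ h (by rwa [neg_neg_index])
      rwa [root_neg] at this
  · rintro (h | h)
    · exact hSP h
    · have hn : P.reflectionPerm k k ∈ RootD.posOf P Δ := by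
        change P.root _ ∈ RootD.natSpan P Δ
        rw [root_neg]
        exact AddSubmonoid.closure_mono (image_mono (fun i hi => hi.1)) h
      obtain ⟨c, hc1, hc2, hc3⟩ := mem_natSpan_iff.mp h
      have hck := coef_eq hΔ (k := P.reflectionPerm k k) (fun l hl => (hc1 hl).1)
        (by rw [hc3, root_neg])
      have := bwd _ hn fun l hl => by
        rw [hck] at hl
        exact hc1 (Finsupp.mem_support_iff.mpr hl.ne')
      rwa [neg_neg_index] at this

end Groth.Agent.RootSys
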