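import Groth.Agent.RootSys.Weyl

/-!
Existence of systems of simple roots for finite root data over the integers.
-/

set_option autoImplicit false
set_option linter.unusedSectionVars false

namespace Groth.Agent.RootSys

open RootPairing Set

variable {ι M N : Type*} [AddCommGroup M] [AddCommGroup N] (P : RootPairing ι ℤ M N)

theorem pairingIn_int (i j : ι) : P.pairingIn ℤ i j = P.pairing i j := by
  rw [← P.algebraMap_pairingIn ℤ i j]; rfl

variable [Finite ι]

/-- A linear form on the weight lattice which vanishes on no root. -/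
theorem exists_generic : ∃ f : Module.Dual ℤ M, ∀ i, f (P.root i) ≠ 0 := by
  classical
  have := Fintype.ofFinite ι
  let e := Fintype.equivFin ι
  let p : ι → Polynomial ℤ := fun i =>
    ∑ k : ι, Polynomial.C (P.pairing i k) * Polynomial.X ^ (e k : ℕ)
  have hp : ∀ i, p i ≠ 0 := by
    intro i hi
    have h := congrArg (fun q : Polynomial ℤ => q.coeff (e i : ℕ)) hi
    simp only [p, Polynomial.finsetSum_coeff, Polynomial.coeff_C_mul, Polynomial.coeff_X_pow,
      Polynomial.coeff_zero] at h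
    rw [Finset.sum_eq_single i] at h
    · simp at h
    · intro k _ hk
      rw [if_neg, mul_zero]
      exact fun hh => hk (e.injective (Fin.ext hh)).symm
    · simp
  obtain ⟨t, ht⟩ := Infinite.exists_notMem_finset
    (Finset.univ.biUnion fun i => (p i).roots.toFinset)
  refine ⟨∑ k : ι, t ^ (e k : ℕ) • P.coroot' k, fun i hi => ?_⟩
  refine ht (Finset.mem_biUnion.mpr ⟨i, Finset.mem_univ _, ?_⟩)
  rw [Multiset.mem_toFinset, Polynomial.mem_roots (hp i)]
  change (p i).eval t = 0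
  rw [← hi]
  simp only [p, Polynomial.eval_finsetSum, Polynomial.eval_mul, Polynomial.eval_C,
    Polynomial.eval_pow, Polynomial.eval_X, LinearMap.sum_apply, LinearMap.smul_apply,
    root_coroot'_eq_pairing, smul_eq_mul]
  exact Finset.sum_congr rfl fun k _ => mul_comm _ _

/-- Every finite root datum has a system of simple roots. -/
theorem exists_simpleSys : ∃ Δ : Set ι, RootD.IsSimpleSys P Δ := by
  obtain ⟨f, hf⟩ := exists_generic P
  letI := P.indexNeg
  refine ⟨IsAddIndecomposable.baseOf P.root (f : M →+ ℤ),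
    P.linearIndepOn_root_baseOf' f hf, fun i => ?_⟩
  exact IsAddIndecomposable.mem_or_neg_mem_closure_baseOf P.root (f : M →+ ℤ) i (hf i) (by simp)

variable {P}

theorem isPosSys_iff {S : Set ι} :
    RootD.IsPosSys P S ↔ (∀ i ∈ S, P.reflectionPerm i i ∉ S) ∧
      (∀ i : ι, i ∈ S ∨ P.reflectionPerm i i ∈ S) ∧ RootD.IsClosedSub P S := by
  refine ⟨fun h => ⟨h.disjoint, h.cover, isClosedSub_of_isPosSys h⟩, fun ⟨h1, h2, h3⟩ => ?_⟩
  obtain ⟨Δ, hΔ⟩ := exists_simpleSys P
  exact isPosSys_of_closed hΔ h1 h2 h3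

theorem existsUnique_simpleSys {S : Set ι} (hS : RootD.IsPosSys P S) :
    ∃! Δ : Set ι, RootD.IsSimpleSys P Δ ∧ Δ ⊆ S := by
  obtain ⟨Δ₀, hΔ₀⟩ := exists_simpleSys P
  obtain ⟨g, _, hgS⟩ := exists_weyl_eq hΔ₀ hS.disjoint hS.cover (isClosedSub_of_isPosSys hS)
  refine ⟨_, ⟨isSimpleSys_smul g hΔ₀, fun k hk => hgS ▸ simple_pos (isSimpleSys_smul g hΔ₀) hk⟩,
    ?_⟩
  rintro Δ' ⟨hΔ', hsub⟩
  refine eq_of_posOf_eq hΔ' (isSimpleSys_smul g hΔ₀) ?_
  rw [hgS]
  refine (posOf_subset hΔ' hsub (isClosedSub_of_isPosSys hS)).antisymm fun k hk => ?_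
  rcases pos_or_neg hΔ' k with h | h
  · exact h
  · exact absurd (posOf_subset hΔ' hsub (isClosedSub_of_isPosSys hS) h) (hS.disjoint hk)

theorem exists_simpleSys_of_isPosSys {S : Set ι} (hS : RootD.IsPosSys P S) :
    ∃ Δ : Set ι, RootD.IsSimpleSys P Δ ∧ RootD.posOf P Δ = S := by
  obtain ⟨Δ₀, hΔ₀⟩ := exists_simpleSys P
  obtain ⟨g, _, hgS⟩ := exists_weyl_eq hΔ₀ hS.disjoint hS.cover (isClosedSub_of_isPosSys hS)
  exact ⟨_, isSimpleSys_smul g hΔ₀, hgS⟩

theorem posOf_eq_of_subset {S Δ : Set ι} (hS : RootD.IsPosSys P S) (hΔ : RootD.IsSimpleSys P Δ)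
    (hsub : Δ ⊆ S) : RootD.posOf P Δ = S := by
  refine (posOf_subset hΔ hsub (isClosedSub_of_isPosSys hS)).antisymm fun k hk => ?_
  rcases pos_or_neg hΔ k with h | h
  · exact h
  · exact absurd (posOf_subset hΔ hsub (isClosedSub_of_isPosSys hS) h) (hS.disjoint hk)

end Groth.Agent.RootSys
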