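import Groth.Agent.RootSys.Criterion
import Mathlib.Analysis.Matrix.PosDef
import Mathlib.Algebra.Order.Star.Real

/-!
Gram matrices of simple roots, positive functionals, and the dual system of simple coroots.
-/

set_option autoImplicit false
set_option linter.unusedSectionVars false
set_option linter.unusedVariables false

namespace Groth.Agent.RootSys

open RootPairing Set Matrix

variable {ι M N : Type*} [AddCommGroup M] [AddCommGroup N] {P : RootPairing ι ℤ M N} [Fintype ι]
  {Δ : Set ι}

theorem rootForm_root_pos (i : ι) : 0 < P.RootForm (P.root i) (P.root i) :=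
  P.rootForm_pos_of_ne_zero (Submodule.subset_span (mem_range_self i)) (P.ne_zero i)

/-- The Gram matrix of a finite family of roots. -/
def gram (P : RootPairing ι ℤ M N) (s : Finset ι) : Matrix s s ℤ :=
  Matrix.of fun a b => P.RootForm (P.root a) (P.root b)

theorem gram_isSymm (s : Finset ι) : (gram P s).IsSymm :=
  Matrix.ext fun a b => P.rootForm_symmetric.eq _ _

theorem gram_dot (s : Finset ι) (x : s → ℤ) :
    x ⬝ᵥ (gram P s *ᵥ x) = P.RootForm (∑ a, x a • P.root a) (∑ a, x a • P.root a) := by
  simp only [dotProduct, mulVec, gram, Matrix.of_apply, map_sum, map_zsmul, LinearMap.sum_apply,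
    LinearMap.smul_apply, smul_eq_mul, Finset.mul_sum]
  rw [Finset.sum_comm]
  exact Finset.sum_congr rfl fun a _ => Finset.sum_congr rfl fun b _ => by ring

theorem gram_pos {s : Finset ι} (hli : LinearIndepOn ℤ P.root (s : Set ι)) {x : s → ℤ}
    (hx : x ≠ 0) : 0 < x ⬝ᵥ (gram P s *ᵥ x) := by
  rw [gram_dot]
  refine P.rootForm_pos_of_ne_zero ?_ fun h => ?_
  · exact Submodule.sum_mem _ fun a _ =>
      Submodule.smul_mem _ _ (Submodule.subset_span (mem_range_self _))
  · exact hx (funext fun a => Fintype.linearIndependent_iff.mp hli x h a)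

theorem gram_posDef {s : Finset ι} (hli : LinearIndepOn ℤ P.root (s : Set ι)) :
    (gram P s).PosDef :=
  .of_dotProduct_mulVec_pos
    ((Matrix.conjTranspose_eq_transpose_of_trivial _).trans (gram_isSymm s).eq)
    fun x hx => by simpa using gram_pos hli hx

theorem gram_det_ne_zero [DecidableEq ι] {s : Finset ι} (hli : LinearIndepOn ℤ P.root (s : Set ι)) :
    (gram P s).det ≠ 0 := by
  classical
  intro h
  obtain ⟨v, hv, hv'⟩ := Matrix.exists_mulVec_eq_zero_iff.mpr h
  have := gram_pos hli hv
  rw [hv', dotProduct_zero] at this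
  exact lt_irrefl _ this

theorem gram_det_pos [DecidableEq ι] {s : Finset ι} (hli : LinearIndepOn ℤ P.root (s : Set ι)) :
    0 < (gram P s).det := by
  classical
  refine lt_of_le_of_ne ?_ (gram_det_ne_zero hli).symm
  let A : Matrix ι s ℝ := Matrix.of fun i a => (P.coroot' i (P.root a) : ℝ)
  have hA : (gram P s).map (Int.castRingHom ℝ) = A.conjTranspose * A := by
    ext a b
    simp [gram, A, Matrix.mul_apply, rootForm_apply_apply]
  have h := (Matrix.posSemidef_conjTranspose_mul_self A).det_nonneg
  rw [← hA, ← RingHom.mapMatrix_apply, ← RingHom.map_det] at h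
  rw [eq_intCast] at h
  exact_mod_cast h

/-- A linear form on the weight lattice which is positive on a linearly independent set of
roots. -/
theorem exists_dual_pos_finset {s : Finset ι} (hli : LinearIndepOn ℤ P.root (s : Set ι)) :
    ∃ f : Module.Dual ℤ M, ∀ a ∈ s, 0 < f (P.root a) := by
  classical
  set G := gram P s
  let x : s → ℤ := G.det • (G.adjugate *ᵥ fun _ => 1)
  refine ⟨P.RootForm (∑ a, x a • P.root a), fun b hb => ?_⟩
  have h : P.RootForm (∑ a, x a • P.root a) (P.root b) = (G *ᵥ x) ⟨b, hb⟩ := by
    simp only [G, mulVec, dotProduct, gram, Matrix.of_apply, map_sum, map_zsmul,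
      LinearMap.sum_apply, LinearMap.smul_apply, smul_eq_mul]
    exact Finset.sum_congr rfl fun a _ => by
      rw [show P.RootForm (P.root b) (P.root a) = P.RootForm (P.root a) (P.root b) from
        P.rootForm_symmetric.eq _ _, mul_comm]
  rw [h, show G *ᵥ x = G.det • (G.det • fun _ => 1) by
    simp only [x, mulVec_smul, mulVec_mulVec, mul_adjugate, smul_mulVec, one_mulVec]]
  simp only [Pi.smul_apply, smul_eq_mul, mul_one]
  exact mul_self_pos.mpr (gram_det_ne_zero hli)

theorem exists_dual_pos (hΔ : RootD.IsSimpleSys P Δ) :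
    ∃ f : Module.Dual ℤ M, ∀ k ∈ RootD.posOf P Δ, 0 < f (P.root k) := by
  classical
  obtain ⟨f, hf⟩ := exists_dual_pos_finset (P := P) (s := Δ.toFinite.toFinset) (by rw [Set.Finite.coe_toFinset]; exact hΔ.linInd)
  refine ⟨f, fun k hk => pos_induction hΔ (p := fun k => 0 < f (P.root k))
    (fun i hi => hf i (Δ.toFinite.mem_toFinset.mpr hi)) (fun i j k hi _ he ih => ?_) hk⟩
  rw [he, map_add]
  exact add_pos ih (hf i (Δ.toFinite.mem_toFinset.mpr hi))

/-- A positive combination of two coroots which is a coroot comes from a positive combination of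
the roots. -/
theorem root_rel_of_coroot_add {i j k : ι} (h : P.coroot k = P.coroot i + P.coroot j) :
    (P.RootForm (P.root i) (P.root i) * P.RootForm (P.root j) (P.root j)) • P.root k =
      (P.RootForm (P.root k) (P.root k) * P.RootForm (P.root j) (P.root j)) • P.root i +
      (P.RootForm (P.root k) (P.root k) * P.RootForm (P.root i) (P.root i)) • P.root j := by
  have hi := P.rootForm_self_smul_coroot i
  have hj := P.rootForm_self_smul_coroot j
  have hk := P.rootForm_self_smul_coroot k
  set a := P.RootForm (P.root i) (P.root i)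
  set b := P.RootForm (P.root j) (P.root j)
  set c := P.RootForm (P.root k) (P.root k)
  set x : M := (a * b) • P.root k - (c * b) • P.root i - (c * a) • P.root j with hx
  have hPol : P.Polarization x = 0 := by
    have := isAddTorsionFree_coweight P
    have h2 : (2 : ℕ) • P.Polarization x = 0 := by
      rw [hx, map_sub, map_sub, map_zsmul, map_zsmul, map_zsmul, smul_sub, smul_sub,
        smul_comm (2 : ℕ), smul_comm (2 : ℕ), smul_comm (2 : ℕ), ← hi, ← hj, ← hk, h]
      module
    exact (smul_eq_zero.mp h2).resolve_left two_ne_zero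
  have hx0 : x = 0 := by
    refine P.eq_zero_of_mem_rootSpan_of_rootForm_self_eq_zero ?_ ?_
    · rw [hx]
      refine sub_mem (sub_mem ?_ ?_) ?_ <;>
        exact Submodule.smul_mem _ _ (Submodule.subset_span (mem_range_self _))
    · rw [← P.toLinearMap_apply_apply_Polarization, hPol, map_zero]
  have h' := sub_eq_zero.mp (show (a * b) • P.root k -
    ((c * b) • P.root i + (c * a) • P.root j) = 0 by rw [← sub_sub, ← hx, hx0])
  exact h'

theorem flip_neg_index (i : ι) : P.flip.reflectionPerm i i = P.reflectionPerm i i := rfl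

theorem posOf_isPosSys_flip (hΔ : RootD.IsSimpleSys P Δ) :
    RootD.IsPosSys P.flip (RootD.posOf P Δ) := by
  refine isPosSys_iff.mpr ⟨fun i hi => not_pos_and_neg hΔ hi, pos_or_neg hΔ, ?_⟩
  intro i j k hi hj (h : P.coroot k = P.coroot i + P.coroot j)
  have h' := root_rel_of_coroot_add h
  refine (mem_posOf_iff hΔ).mpr fun l => ?_
  have hc := congrArg (fun f : ι →₀ ℤ => f l) (coef_sum_lc hΔ (Finset.univ : Finset (Fin 2)) ![i, j]
    ![P.RootForm (P.root k) (P.root k) * P.RootForm (P.root j) (P.root j),
      P.RootForm (P.root k) (P.root k) * P.RootForm (P.root i) (P.root i)]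
    (by rw [Fin.sum_univ_two]; exact h'))
  simp [Fin.sum_univ_two] at hc
  have hA := mul_pos (rootForm_root_pos (P := P) i) (rootForm_root_pos (P := P) j)
  refine nonneg_of_mul_nonneg_right ?_ hA
  rw [hc]
  exact add_nonneg
    (mul_nonneg (mul_pos (rootForm_root_pos k) (rootForm_root_pos j)).le
      ((mem_posOf_iff hΔ).mp hi l))
    (mul_nonneg (mul_pos (rootForm_root_pos k) (rootForm_root_pos i)).le
      ((mem_posOf_iff hΔ).mp hj l))

/-- A weight pairing positively with all positive coroots. -/
theorem exists_regular_dominant (hΔ : RootD.IsSimpleSys P Δ) :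
    ∃ m : M, ∀ k ∈ RootD.posOf P Δ, 0 < P.coroot' k m := by
  obtain ⟨Δ', hΔ', hpos⟩ := exists_simpleSys_of_isPosSys (posOf_isPosSys_flip hΔ)
  obtain ⟨f, hf⟩ := exists_dual_pos hΔ'
  refine ⟨P.toPerfPair.symm f, fun k hk => ?_⟩
  have h := hf k (hpos.symm ▸ hk)
  have e : P.toLinearMap (P.toPerfPair.symm f) = f := P.toPerfPair.apply_symm_apply f
  change 0 < P.toLinearMap (P.toPerfPair.symm f) (P.coroot k)
  rw [e]
  exact h

end Groth.Agent.RootSys
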