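import Groth.Agent.RootSys.Base

/-!
The sum of the positive (co)roots for a reduced root pairing.
-/

set_option autoImplicit false
set_option linter.unusedSectionVars false

namespace Groth.Agent.RootSys

open RootPairing Set

variable {ι R M N : Type*} [CommRing R] [CharZero R] [IsDomain R] [AddCommGroup M] [Module R M]
  [AddCommGroup N] [Module R N] {P : RootPairing ι R M N} [P.IsCrystallographic] [Finite ι]
  [P.IsReduced] {Δ : Set ι} (hΔ : RootD.IsSimpleSys P Δ)

theorem isIndiv_of_isReduced (i : ι) : RootD.IsIndiv P i := by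
  rw [isIndiv_iff]
  intro j hj
  have := isAddTorsionFree_weight P
  exact P.nsmul_notMem_range_root (i := j) (n := 2) ⟨i, by rw [← hj]; norm_cast⟩

include hΔ

theorem refl_mem_pos_diff_iff {d : ι} (hd : d ∈ Δ) (k : ι) :
    (P.reflectionPerm d k ∈ RootD.posOf P Δ ∧ P.reflectionPerm d k ≠ d) ↔
      (k ∈ RootD.posOf P Δ ∧ k ≠ d) := by
  have key : ∀ k, k ∈ RootD.posOf P Δ ∧ k ≠ d →
      P.reflectionPerm d k ∈ RootD.posOf P Δ ∧ P.reflectionPerm d k ≠ d := by
    rintro k ⟨hk, hne⟩
    refine ⟨refl_pos_of_indiv hΔ hd hk (isIndiv_of_isReduced k) hne, fun h => ?_⟩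
    refine not_pos_and_neg hΔ (simple_pos hΔ hd) ?_
    have h' : k = P.reflectionPerm d d :=
      calc k = P.reflectionPerm d (P.reflectionPerm d k) := (reflectionPerm_self P d k).symm
        _ = P.reflectionPerm d d := congrArg _ h
    exact h' ▸ hk
  exact ⟨fun h => by simpa using key _ h, key k⟩

variable [Fintype ι]

open Classical in
/-- The reflection in a simple root lowers the sum of the positive roots by twice that root. -/
theorem reflection_sum_pos {d : ι} (hd : d ∈ Δ) :
    P.reflection d (∑ i, if i ∈ RootD.posOf P Δ then P.root i else 0) =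
      (∑ i, if i ∈ RootD.posOf P Δ then P.root i else 0) - (2 : R) • P.root d := by
  rw [← Finset.sum_filter, map_sum]
  set T := Finset.univ.filter fun i => i ∈ RootD.posOf P Δ
  have hdT : d ∈ T := by simp [T, simple_pos hΔ hd]
  rw [← Finset.add_sum_erase T _ hdT, ← Finset.add_sum_erase T (fun i => P.root i) hdT,
    reflection_apply_self]
  have : ∑ i ∈ T.erase d, P.reflection d (P.root i) = ∑ i ∈ T.erase d, P.root i := by
    refine Finset.sum_bij' (fun i _ => P.reflectionPerm d i) (fun i _ => P.reflectionPerm d i)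
      ?_ ?_ (fun i _ => reflectionPerm_self P d i) (fun i _ => reflectionPerm_self P d i)
      (fun i _ => (P.root_reflectionPerm d i).symm) <;>
    · intro i hi
      simp only [T, Finset.mem_erase, Finset.mem_filter, Finset.mem_univ, true_and] at hi ⊢
      exact ((refl_mem_pos_diff_iff hΔ hd i).mpr hi.symm).symm
  rw [this, two_smul]
  abel

open Classical in
/-- A simple coroot pairs to two with the sum of the positive roots. -/
theorem pairing_sum_pos {d : ι} (hd : d ∈ Δ) :
    ∑ i, (if i ∈ RootD.posOf P Δ then P.pairingIn ℤ i d else 0) = 2 := by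
  have h := reflection_sum_pos hΔ hd
  rw [reflection_apply, sub_right_inj, map_sum] at h
  have := isTorsionFree_weight P
  have h' := smul_left_injective R (P.ne_zero d) h
  simp only [apply_ite (P.coroot' d), coroot'_root, map_zero] at h'
  have : ((∑ i, (if i ∈ RootD.posOf P Δ then P.pairingIn ℤ i d else 0) : ℤ) : R) = ((2 : ℤ) : R) := by
    rw [Int.cast_sum, Int.cast_ofNat, ← h']
    exact Finset.sum_congr rfl fun i _ => by split_ifs <;> simp
  exact_mod_cast this

open Classical in
/-- A simple root pairs to two with the sum of the positive coroots. -/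
theorem pairing_sum_pos' {d : ι} (hd : d ∈ Δ) :
    ∑ i, (if i ∈ RootD.posOf P Δ then P.pairingIn ℤ d i else 0) = 2 := by
  have hd' : d ∈ Finset.univ.filter fun i => i ∈ RootD.posOf P Δ := by simp [simple_pos hΔ hd]
  rw [← Finset.sum_filter, ← Finset.add_sum_erase _ _ hd', pairingIn_same, add_eq_left]
  set T := (Finset.univ.filter fun i => i ∈ RootD.posOf P Δ).erase d
  have hT : ∀ i, P.reflectionPerm d i ∈ T ↔ i ∈ T := fun i => by
    simp only [T, Finset.mem_erase, Finset.mem_filter, Finset.mem_univ, true_and]
    rw [and_comm, refl_mem_pos_diff_iff hΔ hd, and_comm]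
  have hneg : ∑ i ∈ T, P.pairingIn ℤ d i = -∑ i ∈ T, P.pairingIn ℤ d i := by
    rw [← Finset.sum_neg_distrib]
    refine Finset.sum_bij' (fun i _ => P.reflectionPerm d i) (fun i _ => P.reflectionPerm d i)
      (fun i hi => (hT i).mpr hi) (fun i hi => (hT i).mpr hi)
      (fun i _ => reflectionPerm_self P d i) (fun i _ => reflectionPerm_self P d i) (fun i _ => ?_)
    rw [pairingIn_reflectionPerm, pairingIn_reflectionPerm_self_left]
    simp
  omega

open Classical in
/-- Twice the height is the pairing with the sum of the positive coroots. -/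
theorem two_mul_ht (k : ι) :
    2 * ht hΔ k = ∑ i, if i ∈ RootD.posOf P Δ then P.pairingIn ℤ k i else 0 := by
  have hexp : ∀ i, P.pairingIn ℤ k i = (coef hΔ k).sum fun l a => a * P.pairingIn ℤ l i := by
    intro i
    have h := congrArg (P.coroot' i) (coef_lc hΔ k)
    rw [Finsupp.linearCombination_apply, map_finsuppSum] at h
    simp only [map_zsmul, coroot'_root, zsmul_eq_mul] at h
    simp only [Finsupp.sum] at h ⊢
    exact_mod_cast h.symm
  have : ∀ i, (if i ∈ RootD.posOf P Δ then P.pairingIn ℤ k i else 0) =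
      (coef hΔ k).sum fun l a => a * (if i ∈ RootD.posOf P Δ then P.pairingIn ℤ l i else 0) := by
    intro i
    split_ifs
    · exact hexp i
    · simp
  simp only [this, Finsupp.sum]
  rw [Finset.sum_comm, ht, Finsupp.sum, Finset.mul_sum]
  refine Finset.sum_congr rfl fun l hl => ?_
  rw [← Finset.mul_sum, pairing_sum_pos' hΔ (coef_support hΔ k hl), mul_comm]

omit [Fintype ι] in
/-- Positive coroots are non-negative combinations of simple coroots. -/
theorem coroot_mem_closure {k : ι} (hk : k ∈ RootD.posOf P Δ) :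
    P.coroot k ∈ AddSubmonoid.closure (P.coroot '' Δ) := by
  obtain ⟨n, hn⟩ : ∃ n : ℕ, ht hΔ k < n :=
    ⟨(ht hΔ k).toNat + 1, by omega⟩
  induction n generalizing k with
  | zero => have := one_le_ht hΔ hk; omega
  | succ n ih =>
    by_cases hkΔ : k ∈ Δ
    · exact AddSubmonoid.subset_closure (mem_image_of_mem _ hkΔ)
    obtain ⟨d, hd, _, hp', hp⟩ := exists_simple_pairing_pos hΔ hk
    have h1 := refl_pos_of_indiv hΔ hd hk (isIndiv_of_isReduced k) (fun h => hkΔ (h ▸ hd))
    have h2 := ih h1 (by rw [ht_refl hΔ hd]; omega)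
    have h3 : P.coroot k =
        P.coroot (P.reflectionPerm d k) + (P.pairingIn ℤ d k).toNat • P.coroot d := by
      have hR : ((P.pairingIn ℤ d k).toNat : R) = P.pairing d k := by
        rw [pairing_eq_cast, ← Int.cast_natCast, Int.toNat_of_nonneg hp'.le]
      rw [coroot_reflectionPerm, coreflection_apply, root'_coroot_eq_pairing,
        ← Nat.cast_smul_eq_nsmul R, hR]
      abel
    rw [h3]
    exact AddSubmonoid.add_mem _ h2
      (AddSubmonoid.nsmul_mem _ (AddSubmonoid.subset_closure (mem_image_of_mem _ hd)) _)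

end Groth.Agent.RootSys
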