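import Groth.Agent.RootSys.Exists
import Groth.Agent.RootSys.Rho

/-!
The integral model of a crystallographic root pairing: the lattice spanned by the roots, paired
with its dual.
-/

set_option autoImplicit false
set_option linter.unusedSectionVars false

namespace Groth.Agent.RootSys

open RootPairing Set

variable {ι R M N : Type*} [CommRing R] [CharZero R] [IsDomain R] [AddCommGroup M] [Module R M]
  [AddCommGroup N] [Module R N] (P : RootPairing ι R M N) [P.IsCrystallographic] [Finite ι]

/-- The lattice spanned by the roots. -/
abbrev rootLattice : Submodule ℤ M := Submodule.span ℤ (Set.range P.root)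

theorem free_rootLattice : Module.Free ℤ (rootLattice P) :=
  have := isAddTorsionFree_weight P
  Module.free_of_finite_type_torsion_free'

theorem exists_int_pairing (j : ι) :
    ∃ φ : Module.Dual ℤ (rootLattice P), ∀ x : rootLattice P, (φ x : R) = P.coroot' j (x : M) := by
  refine ⟨P.coroot'In ℤ j, fun x => ?_⟩
  rw [← P.algebraMap_coroot'In_apply ℤ j x]
  rfl

/-- A coroot as a form on the root lattice. -/
noncomputable def latticeCoroot (j : ι) : Module.Dual ℤ (rootLattice P) :=
  (exists_int_pairing P j).choose

theorem latticeCoroot_apply (j : ι) (x : rootLattice P) :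
    (latticeCoroot P j x : R) = P.coroot' j (x : M) :=
  (exists_int_pairing P j).choose_spec x

theorem latticeCoroot_root (j i : ι) :
    latticeCoroot P j ⟨P.root i, Submodule.subset_span (mem_range_self i)⟩ = P.pairingIn ℤ i j := by
  have h := latticeCoroot_apply P j ⟨P.root i, Submodule.subset_span (mem_range_self i)⟩
  rw [coroot'_root] at h
  exact_mod_cast h

theorem sum_latticeCoroot_eq_zero_iff {s : Finset ι} (a : ι → ℤ) :
    ∑ j ∈ s, a j • latticeCoroot P j = 0 ↔ ∑ j ∈ s, a j • P.coroot j = 0 := by
  constructor
  · intro h
    refine eq_zero_of_forall_coroot'_eq_zero (P := P.flip)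
      (Submodule.sum_mem _ fun j _ => ?_) fun i => ?_
    · rw [← Int.cast_smul_eq_zsmul R]
      exact Submodule.smul_mem _ _ (Submodule.subset_span ⟨j, rfl⟩)
    · change P.root' i _ = 0
      have h' := congrArg (fun φ : Module.Dual ℤ (rootLattice P) =>
        (φ ⟨P.root i, Submodule.subset_span (mem_range_self i)⟩ : R)) h
      simp only [LinearMap.sum_apply, LinearMap.smul_apply, latticeCoroot_root, smul_eq_mul,
        Int.cast_sum, Int.cast_mul, LinearMap.zero_apply, Int.cast_zero] at h'
      rw [map_sum, ← h']
      refine Finset.sum_congr rfl fun j _ => ?_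
      rw [map_zsmul, root'_coroot_eq_pairing, pairing_eq_cast, zsmul_eq_mul]
  · intro h
    refine LinearMap.ext fun x => ?_
    apply Int.cast_injective (α := R)
    simp only [LinearMap.sum_apply, LinearMap.smul_apply, smul_eq_mul, Int.cast_sum, Int.cast_mul,
      latticeCoroot_apply, LinearMap.zero_apply, Int.cast_zero]
    have h' := congrArg (fun n : N => P.toLinearMap (x : M) n) h
    simp only [map_sum, map_zsmul, map_zero, zsmul_eq_mul] at h'
    exact h'

theorem latticeCoroot_injective : Function.Injective (latticeCoroot P) := by
  classical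
  intro a b hab
  by_contra hne
  have h := (sum_latticeCoroot_eq_zero_iff P (s := {a, b}) (fun j => if j = a then 1 else -1)).mp
    (by rw [Finset.sum_pair hne, if_pos rfl, if_neg (Ne.symm hne), hab]; module)
  rw [Finset.sum_pair hne, if_pos rfl, if_neg (Ne.symm hne), one_smul, neg_one_smul,
    ← sub_eq_add_neg, sub_eq_zero] at h
  exact hne (P.coroot.injective h)

theorem isPerfPair_eval : (Module.Dual.eval ℤ (rootLattice P)).IsPerfPair :=
  have := free_rootLattice P
  LinearMap.IsPerfPair.dualEval

/-- The root pairing over `ℤ` on the root lattice and its dual. -/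
noncomputable def intModel :
    RootPairing ι ℤ (rootLattice P) (Module.Dual ℤ (rootLattice P)) where
  toLinearMap := Module.Dual.eval ℤ (rootLattice P)
  isPerfPair_toLinearMap := isPerfPair_eval P
  root := ⟨fun i => ⟨P.root i, Submodule.subset_span (mem_range_self i)⟩,
    fun a b h => P.root.injective (congrArg Subtype.val h)⟩
  coroot := ⟨latticeCoroot P, latticeCoroot_injective P⟩
  root_coroot_two i := (latticeCoroot_root P i i).trans (P.pairingIn_same ℤ i)
  reflectionPerm := P.reflectionPerm
  reflectionPerm_root i j := by
    apply Subtype.ext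
    simp only [Function.Embedding.coeFn_mk, Submodule.coe_sub, Submodule.coe_smul]
    rw [show Module.Dual.eval ℤ (rootLattice P)
        ⟨P.root j, Submodule.subset_span (mem_range_self j)⟩ (latticeCoroot P i) =
          P.pairingIn ℤ j i from latticeCoroot_root P i j, root_refl]
  reflectionPerm_coroot i j := by
    refine LinearMap.ext fun x => ?_
    apply Int.cast_injective (α := R)
    simp only [Function.Embedding.coeFn_mk, LinearMap.sub_apply, LinearMap.smul_apply, smul_eq_mul,
      Int.cast_sub, Int.cast_mul, latticeCoroot_apply]
    rw [show Module.Dual.eval ℤ (rootLattice P)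
        ⟨P.root i, Submodule.subset_span (mem_range_self i)⟩ (latticeCoroot P j) =
          P.pairingIn ℤ i j from latticeCoroot_root P j i, ← pairing_eq_cast]
    simp only [coroot', coroot_reflectionPerm, coreflection_apply, root'_coroot_eq_pairing,
      LinearMap.flip_apply, map_sub, map_smul, smul_eq_mul]
    rfl

@[simp] theorem intModel_pairing (i j : ι) :
    (intModel P).pairing i j = P.pairingIn ℤ i j :=
  latticeCoroot_root P j i

@[simp] theorem intModel_pairingIn (i j : ι) :
    (intModel P).pairingIn ℤ i j = P.pairingIn ℤ i j := by
  rw [pairingIn_int, intModel_pairing]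

theorem intModel_root (i : ι) : ((intModel P).root i : M) = P.root i := rfl

theorem intModel_reflectionPerm : (intModel P).reflectionPerm = P.reflectionPerm := rfl

theorem intModel_coroot_rel (c : ι →₀ ℤ) :
    Finsupp.linearCombination ℤ (intModel P).coroot c = 0 ↔
      Finsupp.linearCombination ℤ (fun i => (P.coroot i : N)) c = 0 := by
  simp only [Finsupp.linearCombination_apply, Finsupp.sum]
  exact sum_latticeCoroot_eq_zero_iff P (fun j => c j)

theorem intModel_isIndiv {i : ι} [P.IsReduced] :
    RootD.IsIndiv (intModel P) i ∧ RootD.IsIndiv (intModel P).flip i := by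
  have := isAddTorsionFree_weight P
  have := isAddTorsionFree_coweight P
  refine ⟨isIndiv_iff.mpr fun j hj => ?_, isIndiv_iff.mpr fun j hj => ?_⟩
  · exact isIndiv_iff.mp (isIndiv_of_isReduced (P := P) i) j (congrArg Subtype.val hj)
  · classical
    have hij : j ≠ i := by
      rintro rfl
      exact (intModel P).ne_zero' j (by
        change (2 : ℤ) • (intModel P).coroot j = (intModel P).coroot j at hj
        rw [two_smul, add_eq_left] at hj
        exact hj)
    have h := (sum_latticeCoroot_eq_zero_iff P (s := {j, i})
      (fun l => if l = j then 2 else -1)).mp (by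
        rw [Finset.sum_pair hij, if_pos rfl, if_neg hij.symm, neg_one_smul, ← sub_eq_add_neg,
          sub_eq_zero]
        exact hj)
    rw [Finset.sum_pair hij, if_pos rfl, if_neg hij.symm, neg_one_smul, ← sub_eq_add_neg,
      sub_eq_zero] at h
    have h' : P.coroot i = (2 : R) • P.coroot j := by
      rw [← h, two_smul, two_smul]
    have h2 := coroot_eq_smul_coroot_iff.mp h'
    exact P.nsmul_notMem_range_root (i := i) (n := 2) ⟨j, by rw [h2, two_smul, two_nsmul]⟩

end Groth.Agent.RootSys
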