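import Groth.Prelude.Def_RedSub
import Groth.Agent.RootSys.Functional
import Groth.Agent.RootSys.Rho
import Groth.Agent.RootSys.Base

/-! Inversions of Weyl group words: strong exchange and the length criterion. -/

set_option autoImplicit false

namespace Groth.Agent.RootSys.Inversion

open RedSub

variable {idx M N : Type} [AddCommGroup M] [AddCommGroup N] [Finite idx]
  (P : RootPairing idx ℤ M N) [P.IsReduced] (b : P.Base)

omit [P.IsReduced] in
theorem exists_pos_functional :
    ∃ f : Module.Dual ℤ M, ∀ a, (a ∈ posRoots P b ↔ 0 < f (P.root a)) ∧ (a ∈ negRoots P b ↔ f (P.root a) < 0) := by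
  haveI := Fintype.ofFinite idx
  obtain ⟨f, hf⟩ := exists_dual_pos (base_isSimpleSys b)
  have hp : ∀ a, a ∈ posRoots P b → 0 < f (P.root a) := fun a ha => hf a ha
  have hn : ∀ a, a ∈ negRoots P b → f (P.root a) < 0 := fun a ha => by
    have := hp (P.reflectionPerm a a) (by
      show P.root (P.reflectionPerm a a) ∈ AddSubmonoid.closure (P.root '' (b.support : Set idx))
      rw [root_neg]
      exact ha)
    rw [root_neg, map_neg] at this
    omega
  refine ⟨f, fun a => ⟨⟨hp a, fun h => ?_⟩, hn a, fun h => ?_⟩⟩
  · rcases b.root_mem_or_neg_mem a with h' | h'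
    · exact h'
    · have := hn a h'; omega
  · rcases b.root_mem_or_neg_mem a with h' | h'
    · have := hp a h'; omega
    · exact h'

omit [Finite idx] [P.IsReduced] in
theorem refl_conj_simple (d a : idx) :
    P.reflectionPerm (P.reflectionPerm d a) = P.reflectionPerm d * P.reflectionPerm a * P.reflectionPerm d := by
  ext x
  apply P.root.injective
  simp [RootPairing.reflection_reflectionPerm]

omit [Finite idx] [P.IsReduced] in
theorem word_spec (l : List idx) :
    ∃ L : M ≃ₗ[ℤ] M, ∀ a, P.root (wordPerm P l a) = L (P.root a) ∧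
      P.reflectionPerm (wordPerm P l a) = wordPerm P l * P.reflectionPerm a * (wordPerm P l)⁻¹ := by
  induction l with
  | nil => exact ⟨LinearEquiv.refl ℤ M, fun a => by simp [wordPerm]⟩
  | cons d l ih =>
    obtain ⟨L, hL⟩ := ih
    refine ⟨L.trans (P.reflection d), fun a => ?_⟩
    have hw : wordPerm P (d :: l) = P.reflectionPerm d * wordPerm P l := by simp [wordPerm]
    refine ⟨?_, ?_⟩
    · rw [hw, Equiv.Perm.mul_apply, P.root_reflectionPerm, (hL a).1]; rfl
    · rw [hw, Equiv.Perm.mul_apply, refl_conj_simple, (hL a).2, mul_inv_rev, P.reflectionPerm_inv]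
      group

theorem strong_exchange (l : List idx) (hl : ∀ a ∈ l, a ∈ b.support) (c : idx) (hc : c ∈ posRoots P b)
    (hneg : (wordPerm P l).symm c ∈ negRoots P b) :
    ∃ i : ℕ, i < l.length ∧ P.reflectionPerm c * wordPerm P (l.take (i + 1)) = wordPerm P (l.take i) := by
  induction l generalizing c with
  | nil =>
    obtain ⟨f, hf⟩ := exists_pos_functional P b
    have h1 := (hf c).1.1 hc
    have h2 := (hf c).2.1 hneg
    omega
  | cons d l ih =>
    have hd : d ∈ b.support := hl d (by simp)
    by_cases hcd : c = d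
    · refine ⟨0, by simp, ?_⟩
      subst hcd
      simp [wordPerm]
      rw [← mul_inv_cancel (P.reflectionPerm c), P.reflectionPerm_inv]
    · have hw : ∀ l', wordPerm P (d :: l') = P.reflectionPerm d * wordPerm P l' := fun l' => by simp [wordPerm]
      have hpos : P.reflectionPerm d c ∈ posRoots P b :=
        ((refl_mem_pos_diff_iff (base_isSimpleSys b) (Finset.mem_coe.2 hd) c).2 ⟨hc, hcd⟩).1
      have hneg' : (wordPerm P l).symm (P.reflectionPerm d c) ∈ negRoots P b := by
        rw [hw, ← Equiv.Perm.inv_def, mul_inv_rev, P.reflectionPerm_inv] at hneg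
        exact hneg
      obtain ⟨i, hi, he⟩ := ih (fun a ha => hl a (List.mem_cons_of_mem _ ha)) _ hpos hneg'
      refine ⟨i + 1, by simp; omega, ?_⟩
      rw [List.take_succ_cons, List.take_succ_cons, hw, hw, ← he, refl_conj_simple]
      have h2 : P.reflectionPerm d * P.reflectionPerm d = 1 := by
        rw [← mul_inv_cancel (P.reflectionPerm d), P.reflectionPerm_inv]
      simp only [← mul_assoc, h2, one_mul]

omit [P.IsReduced] in
theorem length_lt_of_pos (l : List idx) (c : idx) (hc : c ∈ posRoots P b)
    (hwc : (wordPerm P l).symm c ∈ posRoots P b) :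
    Set.ncard {a : idx | a ∈ posRoots P b ∧ wordPerm P l a ∈ negRoots P b} <
      Set.ncard {a : idx | a ∈ posRoots P b ∧ (P.reflectionPerm c * wordPerm P l) a ∈ negRoots P b} := by
  obtain ⟨f, hf⟩ := exists_pos_functional P b
  obtain ⟨L, hL⟩ := word_spec P l
  set w := wordPerm P l with hw
  set s := P.reflectionPerm c with hs
  let g : M →ₗ[ℤ] ℤ := f ∘ₗ L.symm.toLinearMap
  have hg : ∀ a, g (P.root (w a)) = f (P.root a) := fun a => by simp [g, (hL a).1]
  have hg' : ∀ x, (w.symm x ∈ posRoots P b) ↔ 0 < g (P.root x) := fun x => by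
    rw [(hf _).1, ← hg, Equiv.apply_symm_apply]
  let A : Set idx := {x | 0 < g (P.root x) ∧ f (P.root x) < 0}
  let B : Set idx := {x | 0 < g (P.root x) ∧ f (P.root (s x)) < 0}
  have hA : {a : idx | a ∈ posRoots P b ∧ w a ∈ negRoots P b} = w ⁻¹' A := by
    ext a; simp [A, (hf a).1, (hf (w a)).2, hg]
  have hB : {a : idx | a ∈ posRoots P b ∧ (s * w) a ∈ negRoots P b} = w ⁻¹' B := by
    ext a; simp [B, (hf a).1, (hf (s (w a))).2, hg]
  rw [hA, hB, Set.ncard_preimage_of_injective_subset_range w.injective (by simp),
    Set.ncard_preimage_of_injective_subset_range w.injective (by simp)]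
  have hcf := (hf c).1.1 hc
  have hcg := (hg' c).1 hwc
  have hsx : ∀ x, P.root (s x) = P.root x - P.pairing x c • P.root c := fun x => P.root_reflectionPerm c x |>.trans
    (P.reflection_apply_root c x)
  have hfz : ∀ x, f (P.root x) ≠ 0 := fun x h => by
    rcases b.root_mem_or_neg_mem x with h' | h'
    · have := (hf x).1.1 h'; omega
    · have := (hf x).2.1 h'; omega
  let φ : idx → idx := fun x => if f (P.root (s x)) < 0 then x else s x
  have hinj : (φ '' A).ncard = A.ncard := by
    refine Set.ncard_image_of_injOn ?_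
    intro x hx y hy hxy
    simp only [φ] at hxy
    split_ifs at hxy with h1 h2 h2
    · exact hxy
    · subst hxy; rw [P.reflectionPerm_self] at h1; exact absurd hy.2 (by have := hx.2; omega)
    · subst hxy; rw [P.reflectionPerm_self] at h2; exact absurd hx.2 (by have := hy.2; omega)
    · exact s.injective hxy
  rw [← hinj]
  refine Set.ncard_lt_ncard ?_ (Set.toFinite B)
  refine (Set.ssubset_iff_of_subset ?_).2 ⟨c, ?_, ?_⟩
  · rintro _ ⟨x, ⟨hx1, hx2⟩, rfl⟩
    simp only [φ]
    split_ifs with h1
    · exact ⟨hx1, h1⟩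
    · refine ⟨?_, by rw [P.reflectionPerm_self]; exact hx2⟩
      have := hfz (s x)
      rw [hsx, map_sub, map_smul, smul_eq_mul] at h1 this
      rw [hsx, map_sub, map_smul, smul_eq_mul]
      have hp : P.pairing x c < 0 := by
        by_contra hp
        have := mul_nonneg (not_lt.1 hp) hcf.le
        omega
      have := mul_neg_of_neg_of_pos hp hcg
      omega
  · refine And.intro hcg ?_
    rw [hs, root_neg, map_neg]; omega
  · rintro ⟨x, ⟨hx1, hx2⟩, he⟩
    simp only [φ] at he
    split_ifs at he with h1
    · subst he; omega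
    · have : x = s c := by rw [← he, P.reflectionPerm_self]
      subst this
      rw [hs, root_neg, map_neg] at hx1
      omega

end Groth.Agent.RootSys.Inversion
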