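import Groth.Agent.RootSys.Functional
import Groth.Agent.RootSys.Rho

/-!
Irreducible root data (no partition into closed symmetric subsets).
-/

set_option autoImplicit false
set_option linter.unusedSectionVars false
set_option linter.unusedVariables false

namespace Groth.Agent.RootSys

open RootPairing Set

variable {ι M N : Type*} [AddCommGroup M] [AddCommGroup N] {P : RootPairing ι ℤ M N} [Fintype ι]

theorem component_eq_univ
    (hirr : ∀ R' : Set ι, RootD.IsClosedSub P R' → RootD.IsSymmSub P R' → RootD.IsClosedSub P R'ᶜ →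
      RootD.IsSymmSub P R'ᶜ → R' = ∅ ∨ R' = Set.univ) (i j : ι) :
    Relation.ReflTransGen (fun a b : ι => ¬ P.IsOrthogonal a b) i j := by
  set C := {j : ι | Relation.ReflTransGen (fun a b : ι => ¬ P.IsOrthogonal a b) i j}
  have step : ∀ a b, a ∈ C → ¬ P.IsOrthogonal a b → b ∈ C := fun a b ha hab => ha.tail hab
  have symm : ∀ a b, ¬ P.IsOrthogonal a b → ¬ P.IsOrthogonal b a :=
    fun a b h h' => h h'.symm
  have key : ∀ a b k, P.root k = P.root a + P.root b →
      ¬ P.IsOrthogonal a k ∨ ¬ P.IsOrthogonal b k := by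
    intro a b k h
    by_contra! hh
    have := P.pairing_eq_add_of_root_eq_add (l := k) h
    rw [hh.1.1, hh.2.1, RootPairing.pairing_same] at this
    simp at this
  have kneg : ∀ a : ι, ¬ P.IsOrthogonal a (P.reflectionPerm a a) := by
    intro a h
    have := h.2
    rw [RootPairing.pairing_reflectionPerm_self_left, RootPairing.pairing_same] at this
    simp at this
  rcases hirr C
    (fun a b k ha hb h => (key a b k h).elim (fun h' => step a k ha h') fun h' => step b k hb h')
    (fun a ha => step a _ ha (kneg a))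
    (fun a b k ha hb h hk => (key a b k h).elim
      (fun h' => ha (step k a hk (symm _ _ h'))) fun h' => hb (step k b hk (symm _ _ h')))
    (fun a ha hk => ha (step _ _ hk (symm _ _ (kneg a)))) with h | h
  · exact absurd (show i ∈ C from Relation.ReflTransGen.refl) (by rw [h]; simp)
  · exact (show j ∈ C by rw [h]; trivial)

theorem rootForm_smul_eq {g : P.Aut} (hg : g ∈ P.weylGroup) (i : ι) :
    P.RootForm (P.root (g • i)) (P.root (g • i)) = P.RootForm (P.root i) (P.root i) := by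
  have h := RootPairing.InvariantForm.apply_weylGroup_smul P (B := P.toInvariantForm) ⟨g, hg⟩
    (P.root i) (P.root i)
  rw [root_smul]
  exact h

theorem exists_conj_nonorth
    (hirr : ∀ R' : Set ι, RootD.IsClosedSub P R' → RootD.IsSymmSub P R' → RootD.IsClosedSub P R'ᶜ →
      RootD.IsSymmSub P R'ᶜ → R' = ∅ ∨ R' = Set.univ) (i j : ι) :
    ∃ g ∈ P.weylGroup, ¬ P.IsOrthogonal i (g • j) := by
  have h := component_eq_univ hirr j i
  induction h with
  | refl =>
    refine ⟨1, one_mem _, fun h => ?_⟩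
    rw [one_smul] at h
    exact two_ne_zero ((pairing_same P j).symm.trans h.1)
  | @tail x y _ hxy ih =>
    obtain ⟨g, hg, hgx⟩ := ih
    by_cases hy : P.IsOrthogonal y (g • j)
    · refine ⟨RootPairing.Equiv.reflection P x * g, mul_mem (P.reflection_mem_weylGroup x) hg,
        fun h => ?_⟩
      have h1 := h.2
      rw [mul_smul, smul_index_reflection] at h1
      have h2 : P.pairing (P.reflectionPerm x (g • j)) y =
          P.pairing (g • j) y - P.pairing (g • j) x * P.pairing x y := by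
        rw [← root_coroot'_eq_pairing (P := P), P.root_reflectionPerm, P.reflection_apply_root,
          map_sub, LinearMap.map_smul, smul_eq_mul, root_coroot'_eq_pairing, root_coroot'_eq_pairing]
      rw [h2, hy.2, zero_sub, neg_eq_zero, mul_eq_zero] at h1
      rcases h1 with h1 | h1
      · exact hgx ⟨P.pairing_eq_zero_iff'.mp h1, h1⟩
      · exact hxy ⟨h1, P.pairing_eq_zero_iff'.mp h1⟩
    · exact ⟨g, hg, hy⟩

theorem nonorth_lengths {i j : ι} (h : ¬ P.IsOrthogonal i j) :
    ∃ t : ℤ, (t = 1 ∨ t = 2 ∨ t = 3 ∨ (t = 4 ∧ ¬ P.IsReduced)) ∧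
      (P.RootForm (P.root j) (P.root j) = t * P.RootForm (P.root i) (P.root i) ∨
        P.RootForm (P.root i) (P.root i) = t * P.RootForm (P.root j) (P.root j)) := by
  have hs := P.toInvariantForm.pairing_mul_eq_pairing_mul_swap i j
  simp only [toInvariantForm_form] at hs
  rw [← pairingIn_int, ← pairingIn_int] at hs
  have h0 : P.pairingIn ℤ i j ≠ 0 := fun h0 => h ⟨by rw [← pairingIn_int]; exact h0,
    P.pairing_eq_zero_iff'.mp (by rw [← pairingIn_int]; exact h0)⟩
  have hmem := P.pairingIn_pairingIn_mem_set_of_isCrystallographic i j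
  have hred := fun hr : P.IsReduced =>
    haveI := hr
    P.pairingIn_pairingIn_mem_set_of_isCrystal_of_isRed i j
  simp only [mem_insert_iff, mem_singleton_iff, Prod.mk.injEq] at hmem hred
  set a := P.pairingIn ℤ i j
  set b := P.pairingIn ℤ j i
  set x := P.RootForm (P.root i) (P.root i)
  set y := P.RootForm (P.root j) (P.root j)
  rcases hmem with ⟨ha, hb⟩ | ⟨ha, hb⟩ | ⟨ha, hb⟩ | ⟨ha, hb⟩ | ⟨ha, hb⟩ | ⟨ha, hb⟩ | ⟨ha, hb⟩ |
    ⟨ha, hb⟩ | ⟨ha, hb⟩ | ⟨ha, hb⟩ | ⟨ha, hb⟩ | ⟨ha, hb⟩ | ⟨ha, hb⟩ | ⟨ha, hb⟩ | ⟨ha, hb⟩ |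
    ⟨ha, hb⟩ | ⟨ha, hb⟩ <;> rw [ha, hb] at hs <;>
    first
    | exact absurd ha h0
    | exact ⟨1, by simp, Or.inl (by omega)⟩
    | exact ⟨2, by simp, Or.inl (by omega)⟩
    | exact ⟨2, by simp, Or.inr (by omega)⟩
    | exact ⟨3, by simp, Or.inl (by omega)⟩
    | exact ⟨3, by simp, Or.inr (by omega)⟩
    | exact ⟨4, Or.inr (Or.inr (Or.inr ⟨rfl, fun hr => by have := hred hr; omega⟩)),
        Or.inl (by omega)⟩
    | exact ⟨4, Or.inr (Or.inr (Or.inr ⟨rfl, fun hr => by have := hred hr; omega⟩)),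
        Or.inr (by omega)⟩

theorem lengths_related
    (hirr : ∀ R' : Set ι, RootD.IsClosedSub P R' → RootD.IsSymmSub P R' → RootD.IsClosedSub P R'ᶜ →
      RootD.IsSymmSub P R'ᶜ → R' = ∅ ∨ R' = Set.univ) (i j : ι) :
    ∃ t : ℤ, (t = 1 ∨ t = 2 ∨ t = 3 ∨ (t = 4 ∧ ¬ P.IsReduced)) ∧
      (P.RootForm (P.root j) (P.root j) = t * P.RootForm (P.root i) (P.root i) ∨
        P.RootForm (P.root i) (P.root i) = t * P.RootForm (P.root j) (P.root j)) := by
  obtain ⟨g, hg, hgj⟩ := exists_conj_nonorth hirr i j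
  have h := nonorth_lengths hgj
  rw [rootForm_smul_eq hg] at h
  exact h

theorem min_dvd
    (hirr : ∀ R' : Set ι, RootD.IsClosedSub P R' → RootD.IsSymmSub P R' → RootD.IsClosedSub P R'ᶜ →
      RootD.IsSymmSub P R'ᶜ → R' = ∅ ∨ R' = Set.univ) {i₀ : ι}
    (hmin : ∀ i : ι, P.RootForm (P.root i₀) (P.root i₀) ≤ P.RootForm (P.root i) (P.root i))
    (i : ι) : P.RootForm (P.root i₀) (P.root i₀) ∣ P.RootForm (P.root i) (P.root i) := by
  obtain ⟨t, ht, h | h⟩ := lengths_related hirr i₀ i
  · exact ⟨t, by rw [h, mul_comm]⟩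
  · have h1 := hmin i
    have h2 := rootForm_root_pos (P := P) i
    rw [h] at h1 ⊢
    have : t = 1 := by rcases ht with rfl | rfl | rfl | ⟨rfl, -⟩ <;> omega
    rw [this, one_mul]

end Groth.Agent.RootSys
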