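import Groth.Agent.RootSys.Basic

/-!
Systems of simple roots (given by conditions on roots only) in a crystallographic root pairing:
coefficients, heights, positivity, and the action of simple reflections.
-/

set_option autoImplicit false
set_option linter.unusedSectionVars false
set_option linter.unusedVariables false

namespace Groth.Agent.RootSys

open RootPairing Set

variable {ι R M N : Type*} [CommRing R] [CharZero R] [IsDomain R] [AddCommGroup M] [Module R M]
  [AddCommGroup N] [Module R N] {P : RootPairing ι R M N} {Δ : Set ι}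

theorem mem_natSpan_iff {S : Set ι} {x : M} :
    x ∈ RootD.natSpan P S ↔ ∃ c : ι →₀ ℤ, ↑c.support ⊆ S ∧ (∀ i, 0 ≤ c i) ∧
      Finsupp.linearCombination ℤ P.root c = x := by
  classical
  constructor
  · intro hx
    induction hx using AddSubmonoid.closure_induction with
    | mem y hy =>
      obtain ⟨i, hi, rfl⟩ := hy
      refine ⟨Finsupp.single i 1, ?_, fun l => ?_, by simp⟩
      · intro l hl
        have := Finsupp.support_single_subset hl
        simp only [Finset.mem_singleton] at this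
        exact this ▸ hi
      · rw [Finsupp.single_apply]; split_ifs <;> omega
    | zero => exact ⟨0, by simp, by simp, by simp⟩
    | add x y _ _ hx hy =>
      obtain ⟨c, hc1, hc2, rfl⟩ := hx
      obtain ⟨d, hd1, hd2, rfl⟩ := hy
      refine ⟨c + d, ?_, fun l => by simpa using add_nonneg (hc2 l) (hd2 l), by simp⟩
      intro l hl
      rcases Finset.mem_union.mp (Finsupp.support_add hl) with h | h
      exacts [hc1 h, hd1 h]
  · rintro ⟨c, hc1, hc2, rfl⟩
    rw [Finsupp.linearCombination_apply]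
    refine AddSubmonoid.sum_mem _ fun l hl => ?_
    obtain ⟨n, hn⟩ := Int.eq_ofNat_of_zero_le (hc2 l)
    simp only [hn]
    rw [natCast_zsmul]
    exact AddSubmonoid.nsmul_mem _ (AddSubmonoid.subset_closure (mem_image_of_mem _ (hc1 hl))) n

theorem linInd_int (hΔ : RootD.IsSimpleSys P Δ) : LinearIndepOn ℤ P.root Δ :=
  hΔ.linInd.restrict_scalars' ℤ

theorem rep_unique (hΔ : RootD.IsSimpleSys P Δ) {c d : ι →₀ ℤ} (hc : ↑c.support ⊆ Δ)
    (hd : ↑d.support ⊆ Δ)
    (h : Finsupp.linearCombination ℤ P.root c = Finsupp.linearCombination ℤ P.root d) : c = d := by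
  classical
  have hli := linearIndepOn_iff.mp (linInd_int hΔ)
  refine sub_eq_zero.mp (hli (c - d) ?_ (by rw [map_sub, h, sub_self]))
  rw [Finsupp.mem_supported]
  intro l hl
  rcases Finset.mem_union.mp (Finsupp.support_sub hl) with h | h
  exacts [hc h, hd h]

theorem exists_coef (hΔ : RootD.IsSimpleSys P Δ) (k : ι) :
    ∃ c : ι →₀ ℤ, ↑c.support ⊆ Δ ∧ Finsupp.linearCombination ℤ P.root c = P.root k := by
  rcases hΔ.mem_or_neg_mem k with h | h
  · obtain ⟨c, h1, _, h3⟩ := mem_natSpan_iff.mp h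
    exact ⟨c, h1, h3⟩
  · obtain ⟨c, h1, _, h3⟩ := mem_natSpan_iff.mp h
    exact ⟨-c, by simpa using h1, by rw [map_neg, h3, neg_neg]⟩

/-- The coefficients of a root along a system of simple roots. -/
noncomputable def coef (hΔ : RootD.IsSimpleSys P Δ) (k : ι) : ι →₀ ℤ := (exists_coef hΔ k).choose

/-- The order (height) of a root along a system of simple roots. -/
noncomputable def ht (hΔ : RootD.IsSimpleSys P Δ) (k : ι) : ℤ :=
  (coef hΔ k).sum fun _ a => a

variable (hΔ : RootD.IsSimpleSys P Δ)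
include hΔ

theorem coef_support (k : ι) : ↑(coef hΔ k).support ⊆ Δ := (exists_coef hΔ k).choose_spec.1

theorem coef_lc (k : ι) : Finsupp.linearCombination ℤ P.root (coef hΔ k) = P.root k :=
  (exists_coef hΔ k).choose_spec.2

theorem coef_eq {k : ι} {c : ι →₀ ℤ} (hc : ↑c.support ⊆ Δ)
    (h : Finsupp.linearCombination ℤ P.root c = P.root k) : coef hΔ k = c :=
  rep_unique hΔ (coef_support hΔ k) hc (by rw [coef_lc, h])

theorem coef_eq_zero_of_notMem {k l : ι} (hl : l ∉ Δ) : coef hΔ k l = 0 :=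
  Finsupp.notMem_support_iff.mp fun h => hl (coef_support hΔ k h)

theorem mem_of_coef_ne_zero {k l : ι} (h : coef hΔ k l ≠ 0) : l ∈ Δ :=
  not_not.mp fun hl => h (coef_eq_zero_of_notMem hΔ hl)

theorem coef_simple {i : ι} (hi : i ∈ Δ) : coef hΔ i = Finsupp.single i 1 := by
  classical
  refine coef_eq hΔ ?_ (by simp)
  intro l hl
  have := Finsupp.support_single_subset hl
  simp only [Finset.mem_singleton] at this
  exact this ▸ hi

theorem coef_add_smul {i j k : ι} {a b : ℤ} (h : P.root k = a • P.root i + b • P.root j) :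
    coef hΔ k = a • coef hΔ i + b • coef hΔ j := by
  classical
  refine coef_eq hΔ ?_ (by rw [map_add, map_smul, map_smul, coef_lc, coef_lc, h])
  intro l hl
  rcases Finset.mem_union.mp (Finsupp.support_add hl) with h | h
  exacts [coef_support hΔ i (Finsupp.support_smul h), coef_support hΔ j (Finsupp.support_smul h)]

theorem coef_smul {i j : ι} {a : ℤ} (h : P.root j = a • P.root i) :
    coef hΔ j = a • coef hΔ i := by
  have := coef_add_smul hΔ (i := i) (j := i) (k := j) (a := a) (b := 0) (by rw [h]; module)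
  rw [this, zero_smul, add_zero]

theorem coef_add {i j k : ι} (h : P.root k = P.root i + P.root j) :
    coef hΔ k = coef hΔ i + coef hΔ j := by
  rw [coef_add_smul hΔ (i := i) (j := j) (k := k) (a := 1) (b := 1) (by rw [h, one_smul, one_smul]), one_smul, one_smul]

theorem coef_neg (k : ι) : coef hΔ (P.reflectionPerm k k) = -coef hΔ k := by
  rw [coef_smul hΔ (i := k) (j := P.reflectionPerm k k) (a := -1) (by rw [root_neg, neg_one_smul]), neg_one_smul]

theorem coef_refl [P.IsCrystallographic] (i k : ι) :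
    coef hΔ (P.reflectionPerm i k) = coef hΔ k - P.pairingIn ℤ k i • coef hΔ i := by
  rw [coef_add_smul hΔ (k := P.reflectionPerm i k) (a := 1) (b := -P.pairingIn ℤ k i) (i := k) (j := i)
    (by rw [root_refl]; module)]
  module

theorem coef_sum_lc {ι' : Type*} (s : Finset ι') (a : ι' → ι) (m : ι' → ℤ) {k : ι} {n : ℤ}
    (h : n • P.root k = ∑ x ∈ s, m x • P.root (a x)) :
    n • coef hΔ k = ∑ x ∈ s, m x • coef hΔ (a x) := by
  classical
  refine rep_unique hΔ ((Finset.coe_subset.mpr Finsupp.support_smul).trans (coef_support hΔ k)) ?_ ?_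
  · intro l hl
    by_contra hlΔ
    refine Finsupp.mem_support_iff.mp hl ?_
    rw [Finsupp.finsetSum_apply]
    exact Finset.sum_eq_zero fun x _ => by simp [coef_eq_zero_of_notMem hΔ hlΔ]
  · rw [map_smul, map_sum, coef_lc, h]
    exact Finset.sum_congr rfl fun x _ => by rw [map_smul, coef_lc]

/-- A multiple of a root written as a combination of roots, in coefficients. -/
theorem coef_lc_rel {c : ι →₀ ℤ} {k : ι} {n : ℤ}
    (h : n • P.root k = Finsupp.linearCombination ℤ P.root c) (l : ι) :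
    n * coef hΔ k l = ∑ x ∈ c.support, c x * coef hΔ x l := by
  rw [Finsupp.linearCombination_apply] at h
  have := congrArg (fun f : ι →₀ ℤ => f l) (coef_sum_lc hΔ c.support id c h)
  simpa [Finsupp.finsetSum_apply] using this

theorem mem_posOf_iff {k : ι} : k ∈ RootD.posOf P Δ ↔ ∀ l, 0 ≤ coef hΔ k l := by
  refine ⟨fun h => ?_, fun h => ?_⟩
  · obtain ⟨c, h1, h2, h3⟩ := mem_natSpan_iff.mp h
    rw [coef_eq hΔ h1 h3]
    exact h2
  · exact mem_natSpan_iff.mpr ⟨coef hΔ k, coef_support hΔ k, h, coef_lc hΔ k⟩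

theorem pos_or_neg (k : ι) :
    k ∈ RootD.posOf P Δ ∨ P.reflectionPerm k k ∈ RootD.posOf P Δ :=
  (hΔ.mem_or_neg_mem k).imp id fun h => by
    change P.root _ ∈ RootD.natSpan P Δ
    rwa [root_neg]

theorem coef_ne_zero (k : ι) : coef hΔ k ≠ 0 := fun h => P.ne_zero k (by
  have := coef_lc hΔ k
  rw [h, map_zero] at this
  exact this.symm)

theorem not_pos_and_neg {k : ι} (h : k ∈ RootD.posOf P Δ) :
    P.reflectionPerm k k ∉ RootD.posOf P Δ := by
  rw [mem_posOf_iff hΔ] at h ⊢
  intro h'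
  refine coef_ne_zero hΔ k (Finsupp.ext fun l => ?_)
  have h1 := h l
  have h2 := h' l
  rw [coef_neg, Finsupp.neg_apply] at h2
  simp only [Finsupp.coe_zero, Pi.zero_apply]
  omega

theorem neg_mem_posOf_iff {k : ι} :
    P.reflectionPerm k k ∈ RootD.posOf P Δ ↔ k ∉ RootD.posOf P Δ :=
  ⟨fun h h' => not_pos_and_neg hΔ h' h, fun h => (pos_or_neg hΔ k).resolve_left h⟩

theorem pos_of_coef_pos {k l : ι} (h : 0 < coef hΔ k l) : k ∈ RootD.posOf P Δ := by
  refine (pos_or_neg hΔ k).resolve_right fun h' => ?_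
  have := (mem_posOf_iff hΔ).mp h' l
  rw [coef_neg, Finsupp.neg_apply] at this
  omega

theorem pos_add {i j k : ι} (hi : i ∈ RootD.posOf P Δ) (hj : j ∈ RootD.posOf P Δ)
    (h : P.root k = P.root i + P.root j) : k ∈ RootD.posOf P Δ := by
  change P.root k ∈ RootD.natSpan P Δ
  rw [h]
  exact AddSubmonoid.add_mem _ hi hj

theorem simple_pos {i : ι} (hi : i ∈ Δ) : i ∈ RootD.posOf P Δ :=
  AddSubmonoid.subset_closure (mem_image_of_mem _ hi)

theorem ht_simple {i : ι} (hi : i ∈ Δ) : ht hΔ i = 1 := by simp [ht, coef_simple hΔ hi]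

theorem ht_add_smul {i j k : ι} {a b : ℤ} (h : P.root k = a • P.root i + b • P.root j) :
    ht hΔ k = a * ht hΔ i + b * ht hΔ j := by
  simp only [ht]
  rw [coef_add_smul hΔ h, Finsupp.sum_add_index' (fun _ => rfl) (fun _ _ _ => rfl),
    Finsupp.sum_smul_index' (fun _ => rfl), Finsupp.sum_smul_index' (fun _ => rfl)]
  simp only [Finsupp.sum, Finset.mul_sum, smul_eq_mul]

theorem ht_add {i j k : ι} (h : P.root k = P.root i + P.root j) :
    ht hΔ k = ht hΔ i + ht hΔ j := by
  rw [ht_add_smul hΔ (i := i) (j := j) (k := k) (a := 1) (b := 1) (by rw [h, one_smul, one_smul]), one_mul, one_mul]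

theorem ht_neg (k : ι) : ht hΔ (P.reflectionPerm k k) = -ht hΔ k := by
  rw [ht_add_smul hΔ (k := P.reflectionPerm k k) (i := k) (j := k) (a := -1) (b := 0) (by rw [root_neg]; module)]
  ring

theorem ht_refl [P.IsCrystallographic] {i : ι} (hi : i ∈ Δ) (k : ι) :
    ht hΔ (P.reflectionPerm i k) = ht hΔ k - P.pairingIn ℤ k i := by
  rw [ht_add_smul hΔ (k := P.reflectionPerm i k) (a := 1) (b := -P.pairingIn ℤ k i) (i := k) (j := i)
    (by rw [root_refl]; module), ht_simple hΔ hi]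
  ring

theorem one_le_ht {k : ι} (hk : k ∈ RootD.posOf P Δ) : 1 ≤ ht hΔ k := by
  have h := (mem_posOf_iff hΔ).mp hk
  obtain ⟨l, hl⟩ : ∃ l, l ∈ (coef hΔ k).support :=
    Finset.nonempty_iff_ne_empty.mpr (by simpa using coef_ne_zero hΔ k)
  refine le_trans ?_ (Finset.single_le_sum (fun x _ => h x) hl)
  have := Finsupp.mem_support_iff.mp hl
  have := h l
  omega

theorem pos_iff_one_le_ht {k : ι} : k ∈ RootD.posOf P Δ ↔ 1 ≤ ht hΔ k := by
  refine ⟨one_le_ht hΔ, fun h => (pos_or_neg hΔ k).resolve_right fun h' => ?_⟩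
  have := one_le_ht hΔ h'
  rw [ht_neg] at this
  omega

variable [P.IsCrystallographic]

theorem simple_indiv {i : ι} (hi : i ∈ Δ) : RootD.IsIndiv P i := by
  rw [isIndiv_iff]
  intro j hj
  have h := congrArg (fun f : ι →₀ ℤ => f i) (coef_smul hΔ (a := 2) (i := j) (j := i) hj.symm)
  simp [coef_simple hΔ hi] at h
  omega

/-- A positive root whose only non-zero coefficient is along the simple root `i`. -/
theorem eq_or_two_of_coef {i k : ι} (hi : i ∈ Δ) (hk : k ∈ RootD.posOf P Δ)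
    (h : ∀ l, l ≠ i → coef hΔ k l = 0) : k = i ∨ P.root k = (2 : ℤ) • P.root i := by
  classical
  have hc : coef hΔ k = Finsupp.single i (coef hΔ k i) := by
    ext l
    by_cases hl : l = i
    · subst hl; simp
    · simp [h l hl, Finsupp.single_eq_of_ne hl]
  have hrel : (1 : ℤ) • P.root k = coef hΔ k i • P.root i := by
    conv_lhs => rw [one_smul, ← coef_lc hΔ k, hc]
    simp
  obtain ⟨c, hc', hck, hce⟩ := indiv_proportional (simple_indiv hΔ hi) one_ne_zero hrel
  have := (mem_posOf_iff hΔ).mp hk i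
  rw [hce, one_mul] at this
  rcases hc' with rfl | rfl | rfl | rfl
  · exact Or.inl (P.root.injective (by rw [hck, one_smul]))
  · omega
  · exact Or.inr hck
  · omega

theorem eq_of_coef_indiv {i k : ι} (hi : i ∈ Δ) (hk : k ∈ RootD.posOf P Δ)
    (hind : RootD.IsIndiv P k) (h : ∀ l, l ≠ i → coef hΔ k l = 0) : k = i :=
  (eq_or_two_of_coef hΔ hi hk h).resolve_right fun h' => isIndiv_iff.mp hind i h'.symm

theorem refl_pos {i k : ι} (hi : i ∈ Δ) (hk : k ∈ RootD.posOf P Δ)
    (hne : k ≠ i) (hne' : P.root k ≠ (2 : ℤ) • P.root i) :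
    P.reflectionPerm i k ∈ RootD.posOf P Δ := by
  classical
  obtain ⟨l, hli, hl⟩ : ∃ l, l ≠ i ∧ coef hΔ k l ≠ 0 := by
    by_contra! H
    rcases eq_or_two_of_coef hΔ hi hk H with h | h
    exacts [hne h, hne' h]
  refine pos_of_coef_pos hΔ (l := l) ?_
  have := (mem_posOf_iff hΔ).mp hk l
  rw [coef_refl, coef_simple hΔ hi, Finsupp.sub_apply, Finsupp.smul_apply,
    Finsupp.single_eq_of_ne hli, smul_zero, sub_zero]
  omega

theorem refl_pos_of_indiv {i k : ι} (hi : i ∈ Δ) (hk : k ∈ RootD.posOf P Δ)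
    (hind : RootD.IsIndiv P k) (hne : k ≠ i) :
    P.reflectionPerm i k ∈ RootD.posOf P Δ :=
  refl_pos hΔ hi hk hne fun h => isIndiv_iff.mp hind i h.symm

variable [Finite ι]

theorem exists_simple_pairing_pos {k : ι} (hk : k ∈ RootD.posOf P Δ) :
    ∃ i ∈ Δ, 0 < coef hΔ k i ∧ 0 < P.pairingIn ℤ i k ∧ 0 < P.pairingIn ℤ k i := by
  obtain ⟨l, hl, hl'⟩ := exists_pos_pairing (P := P) (coef hΔ k) ((mem_posOf_iff hΔ).mp hk) (n := 1)
    one_pos (k := k) (by rw [one_smul, coef_lc])
  exact ⟨l, mem_of_coef_ne_zero hΔ hl.ne', hl, hl', (P.zero_lt_pairingIn_iff' ℤ).mp hl'⟩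

theorem exists_sub_simple {k : ι} (hk : k ∈ RootD.posOf P Δ) (hkΔ : k ∉ Δ) :
    ∃ i ∈ Δ, ∃ j ∈ RootD.posOf P Δ, P.root k = P.root j + P.root i ∧
      ht hΔ j + 1 = ht hΔ k := by
  obtain ⟨i, hi, hc, _, hp⟩ := exists_simple_pairing_pos hΔ hk
  obtain ⟨j, hj⟩ := P.root_sub_root_mem_of_pairingIn_pos hp (fun h => hkΔ (h ▸ hi))
  have hkj : P.root k = P.root j + P.root i := by rw [hj, sub_add_cancel]
  have hh : ht hΔ k = ht hΔ j + 1 := by rw [ht_add hΔ hkj, ht_simple hΔ hi]
  refine ⟨i, hi, j, ?_, hkj, hh.symm⟩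
  rcases pos_or_neg hΔ j with h | h
  · exact h
  · have h1 := one_le_ht hΔ h
    rw [ht_neg] at h1
    have h2 := one_le_ht hΔ hk
    omega

/-- Induction on positive roots by adding simple roots. -/
theorem pos_induction {p : ι → Prop} (h₁ : ∀ i ∈ Δ, p i)
    (h₂ : ∀ i j k, i ∈ Δ → j ∈ RootD.posOf P Δ → P.root k = P.root j + P.root i → p j → p k)
    {k : ι} (hk : k ∈ RootD.posOf P Δ) : p k := by
  obtain ⟨n, hn⟩ : ∃ n : ℕ, ht hΔ k = n + 1 :=
    ⟨(ht hΔ k - 1).toNat, by have := one_le_ht hΔ hk; omega⟩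
  induction n generalizing k with
  | zero =>
    refine h₁ k ?_
    by_contra hkΔ
    obtain ⟨i, _, j, hj, _, hh⟩ := exists_sub_simple hΔ hk hkΔ
    have := one_le_ht hΔ hj
    omega
  | succ n ih =>
    by_cases hkΔ : k ∈ Δ
    · exact h₁ k hkΔ
    · obtain ⟨i, hi, j, hj, he, hh⟩ := exists_sub_simple hΔ hk hkΔ
      exact h₂ i j k hi hj he (ih hj (by omega))

theorem mem_simple_iff_not_sum {k : ι} (hk : k ∈ RootD.posOf P Δ) :
    k ∈ Δ ↔ ¬ ∃ i j : ι, i ∈ RootD.posOf P Δ ∧ j ∈ RootD.posOf P Δ ∧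
      P.root k = P.root i + P.root j := by
  refine ⟨?_, fun h => ?_⟩
  · rintro hkΔ ⟨i, j, hi, hj, h⟩
    have h0 := ht_add hΔ h
    have := one_le_ht hΔ hi
    have := one_le_ht hΔ hj
    rw [ht_simple hΔ hkΔ] at h0
    omega
  · by_contra hkΔ
    obtain ⟨i, hi, j, hj, he, _⟩ := exists_sub_simple hΔ hk hkΔ
    exact h ⟨j, i, hj, simple_pos hΔ hi, he⟩

theorem posOf_subset {S : Set ι} (hS : Δ ⊆ S) (hcl : RootD.IsClosedSub P S) :
    RootD.posOf P Δ ⊆ S := fun k hk =>
  pos_induction hΔ (fun i hi => hS hi) (fun i j k hi _ he hj => hcl hj (hS hi) he) hk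

theorem posOf_isPosSys : RootD.IsPosSys P (RootD.posOf P Δ) where
  disjoint := fun _ h => not_pos_and_neg hΔ h
  cover := pos_or_neg hΔ
  sat := by
    intro k n hn h
    obtain ⟨c, hc1, hc2, hc3⟩ := mem_natSpan_iff.mp h
    refine (mem_posOf_iff hΔ).mpr fun l => ?_
    have := coef_lc_rel hΔ (n := (n : ℤ)) (k := k) (by rw [natCast_zsmul, hc3]) l
    have hnn : 0 ≤ (n : ℤ) * coef hΔ k l := by
      rw [this]
      exact Finset.sum_nonneg fun x hx => mul_nonneg (hc2 x) ((mem_posOf_iff hΔ).mp (hc1 hx) l)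
    exact nonneg_of_mul_nonneg_right hnn (by exact_mod_cast hn)

omit hΔ in
theorem eq_of_posOf_eq {Δ' : Set ι} (hΔ : RootD.IsSimpleSys P Δ) (hΔ' : RootD.IsSimpleSys P Δ')
    (h : RootD.posOf P Δ = RootD.posOf P Δ') : Δ = Δ' := by
  ext k
  refine ⟨fun hk => ?_, fun hk => ?_⟩
  · have hp := simple_pos hΔ hk
    rw [mem_simple_iff_not_sum hΔ' (h ▸ hp), ← h, ← mem_simple_iff_not_sum hΔ hp]
    exact hk
  · have hp := simple_pos hΔ' hk
    rw [mem_simple_iff_not_sum hΔ (h.symm ▸ hp), h, ← mem_simple_iff_not_sum hΔ' hp]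
    exact hk

omit hΔ in
theorem isClosedSub_of_isPosSys {S : Set ι} (hS : RootD.IsPosSys P S) :
    RootD.IsClosedSub P S := fun i j k hi hj h => hS.sat 1 one_pos (by
  rw [one_smul, h]
  exact AddSubmonoid.add_mem _ (AddSubmonoid.subset_closure (mem_image_of_mem _ hi))
    (AddSubmonoid.subset_closure (mem_image_of_mem _ hj)))

end Groth.Agent.RootSys
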