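import Groth.Agent.RootSys.Functional

/-!
Subsystems cut out by subspaces, systems of simple roots adapted to them, and simple coroots.
-/

set_option autoImplicit false
set_option linter.unusedSectionVars false
set_option linter.unusedVariables false

namespace Groth.Agent.RootSys

open RootPairing Set Matrix

variable {ι M N : Type*} [AddCommGroup M] [AddCommGroup N] {P : RootPairing ι ℤ M N} [Fintype ι]
  {Δ : Set ι}

theorem exists_maximal_indep (R' : Set ι) :
    ∃ s : Finset ι, (s : Set ι) ⊆ R' ∧ LinearIndepOn ℤ P.root (s : Set ι) ∧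
      ∀ j ∈ R', ∃ n : ℤ, n ≠ 0 ∧ n • P.root j ∈ Submodule.span ℤ (P.root '' (s : Set ι)) := by
  classical
  obtain ⟨s, hs, hmax⟩ := Finset.exists_max_image
    ((Finset.univ : Finset (Finset ι)).filter
      fun s : Finset ι => (s : Set ι) ⊆ R' ∧ LinearIndepOn ℤ P.root (s : Set ι))
    Finset.card ⟨∅, by simp⟩
  obtain ⟨-, hsR, hli⟩ := Finset.mem_filter.mp hs
  refine ⟨s, hsR, hli, fun j hj => ?_⟩
  by_cases hjs : j ∈ s
  · exact ⟨1, one_ne_zero, by
      rw [one_smul]; exact Submodule.subset_span (mem_image_of_mem _ (Finset.mem_coe.mpr hjs))⟩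
  have hnot : ¬ LinearIndepOn ℤ P.root ((insert j s : Finset ι) : Set ι) := fun h => by
    have := hmax (insert j s)
      (Finset.mem_filter.mpr ⟨Finset.mem_univ _, by simp [Set.insert_subset_iff, hj, hsR], h⟩)
    rw [Finset.card_insert_of_notMem hjs] at this
    omega
  rw [linearIndepOn_iff] at hnot
  push Not at hnot
  obtain ⟨c, hc, hc0, hcne⟩ := hnot
  rw [Finsupp.mem_supported] at hc
  have hcj : c j ≠ 0 := by
    intro h
    refine hcne (linearIndepOn_iff.mp hli c ?_ hc0)
    rw [Finsupp.mem_supported]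
    intro l hl
    rcases Finset.mem_insert.mp (Finset.mem_coe.mp (hc hl)) with rfl | h'
    · exact absurd h (Finsupp.mem_support_iff.mp hl)
    · exact h'
  refine ⟨c j, hcj, ?_⟩
  have h' : Finsupp.linearCombination ℤ P.root (Finsupp.single j (c j) - c) = c j • P.root j := by
    rw [map_sub, hc0, Finsupp.linearCombination_single, sub_zero]
  rw [← h', Finsupp.linearCombination_apply]
  refine Submodule.sum_mem _ fun l hl => Submodule.smul_mem _ _ (Submodule.subset_span ?_)
  refine mem_image_of_mem _ ?_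
  by_cases hlj : l = j
  · subst hlj
    exact absurd (by simp) (Finsupp.mem_support_iff.mp hl)
  · have : c l ≠ 0 := by
      simpa [Finsupp.single_eq_of_ne hlj] using Finsupp.mem_support_iff.mp hl
    exact (Finset.mem_insert.mp (Finset.mem_coe.mp (hc (Finsupp.mem_support_iff.mpr this)))).resolve_left hlj

/-- A linear form killing the given roots and not killing a given root outside their rational
span. -/
theorem exists_dual_sep (R' : Set ι) {k : ι}
    (hk : ∀ n : ℤ, n ≠ 0 → n • P.root k ∉ Submodule.span ℤ (P.root '' R')) :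
    ∃ f : Module.Dual ℤ M, (∀ j ∈ R', f (P.root j) = 0) ∧ f (P.root k) ≠ 0 := by
  classical
  obtain ⟨s, hsR, hli, hmax⟩ := exists_maximal_indep (P := P) R'
  set G := gram P s
  set D := G.det
  set x : s → ℤ := G.adjugate *ᵥ fun b => P.RootForm (P.root b) (P.root k) with hx
  set y : M := D • P.root k - ∑ a, x a • P.root a with hy
  have hGx : G *ᵥ x = D • fun b : s => P.RootForm (P.root b) (P.root k) := by
    rw [hx, mulVec_mulVec, mul_adjugate, smul_mulVec, one_mulVec]
  have horth : ∀ b : s, P.RootForm y (P.root b) = 0 := by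
    intro b
    have h := congrFun hGx b
    simp only [G, mulVec, dotProduct, gram, Matrix.of_apply, Pi.smul_apply, smul_eq_mul] at h
    rw [show P.RootForm y (P.root b) = P.RootForm (P.root b) y from
      P.rootForm_symmetric.eq _ _, hy, map_sub, map_zsmul, map_sum, smul_eq_mul, ← h, sub_eq_zero]
    exact Finset.sum_congr rfl fun a _ => by rw [map_zsmul, smul_eq_mul, mul_comm]
  have hys : ∀ z ∈ Submodule.span ℤ (P.root '' (s : Set ι)), P.RootForm y z = 0 := by
    intro z hz
    induction hz using Submodule.span_induction with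
    | mem w hw => obtain ⟨b, hb, rfl⟩ := hw; exact horth ⟨b, hb⟩
    | zero => rw [map_zero]
    | add a b _ _ ha hb => rw [map_add, ha, hb, add_zero]
    | smul t a _ ha => rw [map_zsmul, ha, smul_zero]
  refine ⟨P.RootForm y, fun j hj => ?_, fun h => ?_⟩
  · obtain ⟨n, hn, hmem⟩ := hmax j hj
    have := hys _ hmem
    rw [map_zsmul, smul_eq_mul] at this
    exact (mul_eq_zero.mp this).resolve_left hn
  · have hyy : P.RootForm y y = 0 := by
      conv_lhs => arg 2; rw [hy]
      rw [map_sub, map_zsmul, map_sum, h, smul_zero, zero_sub, neg_eq_zero]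
      exact Finset.sum_eq_zero fun a _ => by rw [map_zsmul, horth a, smul_zero]
    have hy0 : y = 0 := P.eq_zero_of_mem_rootSpan_of_rootForm_self_eq_zero
      (sub_mem (Submodule.smul_mem _ _ (Submodule.subset_span (mem_range_self _)))
        (Submodule.sum_mem _ fun a _ =>
          Submodule.smul_mem _ _ (Submodule.subset_span (mem_range_self _)))) hyy
    refine hk D (gram_det_ne_zero hli) ?_
    rw [sub_eq_zero.mp hy0]
    exact Submodule.sum_mem _ fun a _ =>
      Submodule.smul_mem _ _ (Submodule.subset_span (mem_image_of_mem _ (hsR a.2)))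

/-- A linear form whose kernel meets the roots exactly in a saturated set of roots. -/
theorem exists_dual_vanishing (R' : Set ι)
    (hsat : ∀ k : ι, (∃ n : ℕ, 0 < n ∧ n • P.root k ∈ Submodule.span ℤ (P.root '' R')) → k ∈ R') :
    ∃ f : Module.Dual ℤ M, ∀ k : ι, f (P.root k) = 0 ↔ k ∈ R' := by
  classical
  have hk : ∀ k ∉ R', ∀ n : ℤ, n ≠ 0 → n • P.root k ∉ Submodule.span ℤ (P.root '' R') := by
    intro k hk n hn hmem
    refine hk (hsat k ⟨n.natAbs, Int.natAbs_pos.mpr hn, ?_⟩)
    rcases Int.natAbs_eq n with h | h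
    · rw [← natCast_zsmul, ← h]; exact hmem
    · have : ((n.natAbs : ℤ)) = -n := by omega
      rw [← natCast_zsmul, this, neg_smul]
      exact neg_mem hmem
  suffices key : ∀ s : Finset ι, (∀ k ∈ s, k ∉ R') →
      ∃ f : Module.Dual ℤ M, (∀ j ∈ R', f (P.root j) = 0) ∧ ∀ k ∈ s, f (P.root k) ≠ 0 by
    obtain ⟨f, hf, hf'⟩ := key (Finset.univ.filter fun k => k ∉ R') (by simp)
    exact ⟨f, fun k => ⟨fun h => by_contra fun hk' => hf' k (by simp [hk']) h, hf k⟩⟩
  intro s
  induction s using Finset.induction_on with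
  | empty => exact fun _ => ⟨0, fun _ _ => rfl, by simp⟩
  | insert a s has ih =>
    intro hs
    obtain ⟨f, hf, hf'⟩ := ih fun k hk => hs k (Finset.mem_insert_of_mem hk)
    obtain ⟨g, hg, hg'⟩ := exists_dual_sep (P := P) R' (hk a (hs a (Finset.mem_insert_self a s)))
    set B : ℤ := ∑ k ∈ insert a s, |g (P.root k)| + 1 with hB
    refine ⟨B • f + g, fun j hj => by simp [hf j hj, hg j hj], fun k hk h => ?_⟩
    have hgk : |g (P.root k)| < B := by
      have := Finset.single_le_sum (f := fun k => |g (P.root k)|) (fun x _ => abs_nonneg _) hk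
      omega
    simp only [LinearMap.add_apply, LinearMap.smul_apply, smul_eq_mul] at h
    by_cases hfk : f (P.root k) = 0
    · rcases Finset.mem_insert.mp hk with rfl | hks
      · rw [hfk, mul_zero, zero_add] at h; exact hg' h
      · exact hf' k hks hfk
    · have h1 : |g (P.root k)| = B * |f (P.root k)| := by
        rw [show g (P.root k) = -(B * f (P.root k)) by omega, abs_neg, abs_mul,
          abs_of_nonneg (show (0 : ℤ) ≤ B from le_of_lt (lt_of_le_of_lt (abs_nonneg _) hgk))]
      have h2 : 1 ≤ |f (P.root k)| := Int.one_le_abs hfk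
      nlinarith [abs_nonneg (g (P.root k))]

/-- Systems of simple roots adapted to a saturated set of roots. -/
theorem simpleSys_sub_extends (R' : Set ι)
    (hsat : ∀ k : ι, (∃ n : ℕ, 0 < n ∧ n • P.root k ∈ Submodule.span ℤ (P.root '' R')) → k ∈ R')
    (Δ' : Set ι) (hΔ'R : Δ' ⊆ R') (hli : LinearIndepOn ℤ P.root Δ')
    (hgen : ∀ k ∈ R', P.root k ∈ RootD.natSpan P Δ' ∨ -P.root k ∈ RootD.natSpan P Δ') :
    ∃ Δ : Set ι, RootD.IsSimpleSys P Δ ∧ Δ' ⊆ Δ ∧ R' = RootD.inSpan P Δ' := by
  classical
  obtain ⟨f, hf⟩ := exists_dual_vanishing R' hsat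
  set S : Set ι := {k | 0 < f (P.root k) ∨ (f (P.root k) = 0 ∧ P.root k ∈ RootD.natSpan P Δ')}
  have huniq : ∀ c : ι →₀ ℤ, ↑c.support ⊆ Δ' → Finsupp.linearCombination ℤ P.root c = 0 → c = 0 :=
    fun c hc h => linearIndepOn_iff.mp hli c (by rwa [Finsupp.mem_supported]) h
  have hP1 : ∀ i ∈ S, P.reflectionPerm i i ∉ S := by
    intro i hi hi'
    have hn : f (P.root (P.reflectionPerm i i)) = -f (P.root i) := by rw [root_neg, map_neg]
    rcases hi with hi | ⟨hi, hc⟩ <;> rcases hi' with hi' | ⟨hi', hd⟩ <;> try omega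
    obtain ⟨c, hc1, hc2, hc3⟩ := mem_natSpan_iff.mp hc
    obtain ⟨d, hd1, hd2, hd3⟩ := mem_natSpan_iff.mp hd
    have h0 := huniq (c + d) (fun l hl => (Finset.mem_union.mp (Finsupp.support_add hl)).elim
      (fun h => hc1 h) (fun h => hd1 h)) (by rw [map_add, hc3, hd3, root_neg, add_neg_cancel])
    refine P.ne_zero i ?_
    rw [← hc3, show c = 0 from Finsupp.ext fun l => ?_, map_zero]
    have := congrArg (fun g : ι →₀ ℤ => g l) h0
    have := hc2 l
    have := hd2 l
    simp at *
    omega
  have hP2 : ∀ i : ι, i ∈ S ∨ P.reflectionPerm i i ∈ S := by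
    intro i
    have hn : f (P.root (P.reflectionPerm i i)) = -f (P.root i) := by rw [root_neg, map_neg]
    rcases lt_trichotomy (f (P.root i)) 0 with h | h | h
    · exact Or.inr (Or.inl (by omega))
    · rcases hgen i ((hf i).mp h) with h' | h'
      · exact Or.inl (Or.inr ⟨h, h'⟩)
      · exact Or.inr (Or.inr ⟨by omega, by rwa [root_neg]⟩)
    · exact Or.inl (Or.inl h)
  have hcl : RootD.IsClosedSub P S := by
    intro i j k hi hj hk
    have e : f (P.root k) = f (P.root i) + f (P.root j) := by rw [hk, map_add]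
    rcases hi with hi | ⟨hi, hi'⟩ <;> rcases hj with hj | ⟨hj, hj'⟩
    · exact Or.inl (by omega)
    · exact Or.inl (by omega)
    · exact Or.inl (by omega)
    · exact Or.inr ⟨by omega, by rw [hk]; exact AddSubmonoid.add_mem _ hi' hj'⟩
  obtain ⟨Δ, hΔ, hpos⟩ := exists_simpleSys_of_isPosSys (isPosSys_iff.mpr ⟨hP1, hP2, hcl⟩)
  have hsub : Δ' ⊆ Δ := by
    intro d hd
    have hfd : f (P.root d) = 0 := (hf d).mpr (hΔ'R hd)
    have hdS : d ∈ S := Or.inr ⟨hfd, AddSubmonoid.subset_closure (mem_image_of_mem _ hd)⟩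
    rw [mem_simple_iff_not_sum hΔ (hpos ▸ hdS), hpos]
    rintro ⟨a, b, ha, hb, he⟩
    have hfe : f (P.root d) = f (P.root a) + f (P.root b) := by rw [he, map_add]
    obtain ⟨ha0, ha'⟩ : f (P.root a) = 0 ∧ P.root a ∈ RootD.natSpan P Δ' := by
      rcases ha with ha | ha
      · rcases hb with hb | ⟨hb, -⟩ <;> omega
      · exact ha
    obtain ⟨hb0, hb'⟩ : f (P.root b) = 0 ∧ P.root b ∈ RootD.natSpan P Δ' := by
      rcases hb with hb | hb
      · omega
      · exact hb
    obtain ⟨c, hc1, hc2, hc3⟩ := mem_natSpan_iff.mp ha'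
    obtain ⟨e, he1, he2, he3⟩ := mem_natSpan_iff.mp hb'
    have h0 := huniq (c + e - Finsupp.single d 1) (fun l hl => by
      rcases Finset.mem_union.mp (Finsupp.support_sub hl) with h | h
      · exact (Finset.mem_union.mp (Finsupp.support_add h)).elim (fun h => hc1 h) (fun h => he1 h)
      · exact Finset.mem_singleton.mp (Finsupp.support_single_subset h) ▸ hd)
      (by rw [map_sub, map_add, hc3, he3, Finsupp.linearCombination_single, one_smul, he, sub_self])
    have hl0 : ∀ l, l ≠ d → c l = 0 ∧ e l = 0 := fun l hl => by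
      have := congrArg (fun g : ι →₀ ℤ => g l) h0
      simp [Finsupp.single_eq_of_ne hl] at this
      have := hc2 l
      have := he2 l
      omega
    have hd0 := congrArg (fun g : ι →₀ ℤ => g d) h0
    simp at hd0
    have := hc2 d
    have := he2 d
    rcases (show c d = 0 ∨ e d = 0 by omega) with h | h
    · exact P.ne_zero a (by
        rw [← hc3, show c = 0 from Finsupp.ext fun l => by
          by_cases hl : l = d
          · subst hl; simpa using h
          · simpa using (hl0 l hl).1, map_zero])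
    · exact P.ne_zero b (by
        rw [← he3, show e = 0 from Finsupp.ext fun l => by
          by_cases hl : l = d
          · subst hl; simpa using h
          · simpa using (hl0 l hl).2, map_zero])
  refine ⟨Δ, hΔ, hsub, Set.ext fun k => ⟨fun hk => ?_, fun hk => (hf k).mp ?_⟩⟩
  · have hle : ∀ x ∈ RootD.natSpan P Δ', x ∈ Submodule.span ℤ (P.root '' Δ') := by
      intro x hx
      induction hx using AddSubmonoid.closure_induction with
      | mem y hy => exact Submodule.subset_span hy
      | zero => exact zero_mem _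
      | add a b _ _ ha hb => exact add_mem ha hb
    rcases hgen k hk with h | h
    · exact hle _ h
    · exact neg_mem_iff.mp (hle _ h)
  · have : Submodule.span ℤ (P.root '' Δ') ≤ LinearMap.ker f := Submodule.span_le.mpr (by
      rintro _ ⟨l, hl, rfl⟩
      exact (hf l).mpr (hΔ'R hl))
    exact this hk

theorem eq_inSpan_iff_saturated (R' : Set ι) :
    (∀ k : ι, (∃ n : ℕ, 0 < n ∧ n • P.root k ∈ Submodule.span ℤ (P.root '' R')) → k ∈ R') ↔
      ∃ Δ Δ' : Set ι, RootD.IsSimpleSys P Δ ∧ Δ' ⊆ Δ ∧ R' = RootD.inSpan P Δ' := by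
  classical
  constructor
  · intro hsat
    obtain ⟨f, hf⟩ := exists_dual_vanishing R' hsat
    obtain ⟨Δ₀, hΔ₀⟩ := exists_simpleSys P
    set S : Set ι := {k | 0 < f (P.root k) ∨ (f (P.root k) = 0 ∧ k ∈ RootD.posOf P Δ₀)}
    have hn : ∀ i, f (P.root (P.reflectionPerm i i)) = -f (P.root i) := fun i => by
      rw [root_neg, map_neg]
    have hP1 : ∀ i ∈ S, P.reflectionPerm i i ∉ S := by
      intro i hi hi'
      have := hn i
      rcases hi with hi | ⟨hi, hc⟩ <;> rcases hi' with hi' | ⟨hi', hd⟩ <;> try omega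
      exact not_pos_and_neg hΔ₀ hc hd
    have hP2 : ∀ i : ι, i ∈ S ∨ P.reflectionPerm i i ∈ S := by
      intro i
      have := hn i
      rcases lt_trichotomy (f (P.root i)) 0 with h | h | h
      · exact Or.inr (Or.inl (by omega))
      · exact (pos_or_neg hΔ₀ i).imp (fun h' => Or.inr ⟨h, h'⟩) (fun h' => Or.inr ⟨by omega, h'⟩)
      · exact Or.inl (Or.inl h)
    have hcl : RootD.IsClosedSub P S := by
      intro i j k hi hj hk
      have e : f (P.root k) = f (P.root i) + f (P.root j) := by rw [hk, map_add]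
      rcases hi with hi | ⟨hi, hi'⟩ <;> rcases hj with hj | ⟨hj, hj'⟩
      · exact Or.inl (by omega)
      · exact Or.inl (by omega)
      · exact Or.inl (by omega)
      · exact Or.inr ⟨by omega, pos_add hΔ₀ hi' hj' hk⟩
    obtain ⟨Δ, hΔ, hpos⟩ := exists_simpleSys_of_isPosSys (isPosSys_iff.mpr ⟨hP1, hP2, hcl⟩)
    have hnn : ∀ k ∈ RootD.posOf P Δ, 0 ≤ f (P.root k) := fun k hk => by
      rcases (hpos ▸ hk : k ∈ S) with h | ⟨h, -⟩ <;> omega
    refine ⟨Δ, Δ ∩ R', hΔ, inter_subset_left, Set.ext fun k => ⟨fun hk => ?_, fun hk => ?_⟩⟩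
    · have hsum : ∀ k, f (P.root k) = ∑ l ∈ (coef hΔ k).support, coef hΔ k l * f (P.root l) := by
        intro k
        have := congrArg f (coef_lc hΔ k)
        rw [Finsupp.linearCombination_apply, map_finsuppSum] at this
        simp only [map_zsmul, smul_eq_mul] at this
        exact this.symm
      have key : ∀ k ∈ RootD.posOf P Δ, f (P.root k) = 0 → ∀ l ∉ Δ ∩ R', coef hΔ k l = 0 := by
        intro k hk hfk l hl
        by_contra hne
        have hlΔ := mem_of_coef_ne_zero hΔ hne
        have h1 := hsum k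
        rw [hfk, eq_comm, Finset.sum_eq_zero_iff_of_nonneg (fun x hx => mul_nonneg
          ((mem_posOf_iff hΔ).mp hk x) (hnn x (simple_pos hΔ (coef_support hΔ k hx))))] at h1
        have h2 := (mul_eq_zero.mp (h1 l (Finsupp.mem_support_iff.mpr hne))).resolve_left hne
        exact hl ⟨hlΔ, (hf l).mp h2⟩
      rw [mem_inSpan_iff hΔ inter_subset_left]
      intro l hl
      rcases pos_or_neg hΔ k with h | h
      · exact key k h ((hf k).mpr hk) l hl
      · have := key _ h (by rw [hn, (hf k).mpr hk, neg_zero]) l hl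
        simpa [coef_neg] using this
    · refine (hf k).mp ?_
      have : Submodule.span ℤ (P.root '' (Δ ∩ R')) ≤ LinearMap.ker f := Submodule.span_le.mpr (by
        rintro _ ⟨l, hl, rfl⟩
        exact (hf l).mpr hl.2)
      exact this hk
  · rintro ⟨Δ, Δ', hΔ, hsub, rfl⟩ k ⟨n, hn, hk⟩
    rw [mem_inSpan_iff_smul hΔ hsub]
    refine ⟨n, hn, ?_⟩
    refine (Submodule.span_le.mpr ?_) hk
    rintro _ ⟨l, hl, rfl⟩
    exact hl

theorem coroot_expansion (hΔ : RootD.IsSimpleSys P Δ) (k : ι) :
    P.RootForm (P.root k) (P.root k) • P.coroot k =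
      ∑ l ∈ (coef hΔ k).support,
        (coef hΔ k l * P.RootForm (P.root l) (P.root l)) • P.coroot l := by
  have := isAddTorsionFree_coweight P
  rw [P.rootForm_self_smul_coroot, ← coef_lc hΔ k, Finsupp.linearCombination_apply,
    map_finsuppSum, Finsupp.smul_sum, Finsupp.sum]
  refine Finset.sum_congr rfl fun l hl => ?_
  rw [mul_smul, P.rootForm_self_smul_coroot, map_zsmul, smul_comm]

/-- The indivisible coroot on the ray of a simple coroot. -/
theorem exists_simple_coroot (hΔ : RootD.IsSimpleSys P Δ) :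
    ∃ Δ' : Set ι, RootD.IsSimpleSys P.flip Δ' ∧
      Δ' = {j : ι | ∃ i ∈ Δ, (j = i ∧ RootD.IsIndiv P.flip i) ∨
        (2 : ℤ) • P.coroot j = P.coroot i} := by
  classical
  have tfN := isAddTorsionFree_coweight P
  have tfM := isAddTorsionFree_weight P
  set E : Set ι := {j : ι | ∃ i ∈ Δ, (j = i ∧ RootD.IsIndiv P.flip i) ∨
        (2 : ℤ) • P.coroot j = P.coroot i}
  obtain ⟨Δ', hΔ', hpos⟩ := exists_simpleSys_of_isPosSys (posOf_isPosSys_flip hΔ)
  refine ⟨Δ', hΔ', ?_⟩
  have hhalf : ∀ {i j : ι}, (2 : ℤ) • P.coroot j = P.coroot i ↔ P.root j = (2 : ℤ) • P.root i := by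
    intro i j
    constructor
    · intro h
      exact coroot_eq_smul_coroot_iff.mp h.symm
    · intro h
      exact P.smul_coroot_eq_of_root_eq_smul i j 2 h
  have hsub : E ⊆ Δ' := by
    rintro e ⟨i, hi, hie⟩
    have hep : e ∈ RootD.posOf P Δ := by
      rcases hie with ⟨rfl, -⟩ | h
      · exact simple_pos hΔ hi
      · change P.root e ∈ RootD.natSpan P Δ
        rw [hhalf.mp h, two_smul]
        exact AddSubmonoid.add_mem _ (simple_pos hΔ hi) (simple_pos hΔ hi)
    have hle : ∀ l, l ≠ i → coef hΔ e l = 0 := by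
      intro l hl
      rcases hie with ⟨rfl, -⟩ | h
      · rw [coef_simple hΔ hi, Finsupp.single_eq_of_ne hl]
      · rw [coef_smul hΔ (hhalf.mp h), coef_simple hΔ hi, Finsupp.smul_apply,
          Finsupp.single_eq_of_ne hl, smul_zero]
    rw [mem_simple_iff_not_sum hΔ' (by rw [hpos]; exact hep), hpos]
    rintro ⟨a, b, ha, hb, (he : P.coroot e = P.coroot a + P.coroot b)⟩
    have hc := fun l => congrArg (fun g : ι →₀ ℤ => g l) (coef_sum_lc hΔ
      (Finset.univ : Finset (Fin 2)) ![a, b]
      ![P.RootForm (P.root e) (P.root e) * P.RootForm (P.root b) (P.root b),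
        P.RootForm (P.root e) (P.root e) * P.RootForm (P.root a) (P.root a)]
      (by rw [Fin.sum_univ_two]; exact root_rel_of_coroot_add he))
    simp [Fin.sum_univ_two] at hc
    have hab : ∀ l, l ≠ i → coef hΔ a l = 0 ∧ coef hΔ b l = 0 := by
      intro l hl
      have h := hc l
      rw [hle l hl, mul_zero] at h
      have p1 := mul_pos (rootForm_root_pos (P := P) e) (rootForm_root_pos (P := P) b)
      have p2 := mul_pos (rootForm_root_pos (P := P) e) (rootForm_root_pos (P := P) a)
      have n1 := mul_nonneg p1.le ((mem_posOf_iff hΔ).mp ha l)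
      have n2 := mul_nonneg p2.le ((mem_posOf_iff hΔ).mp hb l)
      exact ⟨(mul_eq_zero.mp (le_antisymm (by linarith) n1)).resolve_left p1.ne',
        (mul_eq_zero.mp (le_antisymm (by linarith) n2)).resolve_left p2.ne'⟩
    have ca := eq_or_two_of_coef hΔ hi ha fun l hl => (hab l hl).1
    have cb := eq_or_two_of_coef hΔ hi hb fun l hl => (hab l hl).2
    have key : ∀ c, (c = i ∨ P.root c = (2 : ℤ) • P.root i) →
        P.coroot c = P.coroot i ∨ (2 : ℤ) • P.coroot c = P.coroot i := by
      rintro c (rfl | h)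
      · exact Or.inl rfl
      · exact Or.inr (hhalf.mpr h)
    have hne : ∀ t : ℤ, t • P.coroot i = 0 → t = 0 := fun t ht =>
      (smul_eq_zero.mp ht).resolve_right (P.ne_zero' i)
    rcases hie with ⟨rfl, hind⟩ | h2
    · have hno : ∀ c, (2 : ℤ) • P.coroot c ≠ P.coroot e := isIndiv_iff.mp hind
      rcases key a ca with ka | ka
      · rw [ka, left_eq_add] at he
        exact P.ne_zero' b he
      · exact hno a ka
    · have h2' : (2 : ℤ) • P.coroot e = (2 : ℤ) • P.coroot a + (2 : ℤ) • P.coroot b := by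
        rw [he, smul_add]
      rw [h2] at h2'
      rcases key a ca with ka | ka <;> rcases key b cb with kb | kb
      · rw [ka, kb] at h2'
        have := hne 3 (by linear_combination (norm := module) -h2'); omega
      · rw [ka, kb] at h2'
        have := hne 2 (by linear_combination (norm := module) -h2'); omega
      · rw [ka, kb] at h2'
        have := hne 2 (by linear_combination (norm := module) -h2'); omega
      · rw [ka, kb] at h2'
        have := hne 1 (by linear_combination (norm := module) -h2'); omega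
  refine Subset.antisymm (fun x hx => ?_) hsub
  by_contra hxE
  have hex : ∀ l ∈ Δ, ∃ e ∈ E, ∃ t : ℤ, P.coroot l = t • P.coroot e := by
    intro l hl
    by_cases hind : RootD.IsIndiv P.flip l
    · exact ⟨l, ⟨l, hl, Or.inl ⟨rfl, hind⟩⟩, 1, (one_smul _ _).symm⟩
    · rw [isIndiv_iff] at hind
      push Not at hind
      obtain ⟨j, hj⟩ := hind
      exact ⟨j, ⟨l, hl, Or.inr hj⟩, 2, hj.symm⟩
  choose! e heE t he using hex
  have hexp : P.RootForm (P.root x) (P.root x) • P.flip.root x =
      ∑ l ∈ (coef hΔ x).support,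
        (coef hΔ x l * P.RootForm (P.root l) (P.root l) * t l) • P.flip.root (e l) := by
    refine (coroot_expansion hΔ x).trans (Finset.sum_congr rfl fun l hl => ?_)
    rw [mul_smul _ (t l), he l (coef_support hΔ x hl)]
    rfl
  have h0 := congrArg (fun g : ι →₀ ℤ => g x) (coef_sum_lc hΔ' (coef hΔ x).support e _ hexp)
  simp only [Finsupp.smul_apply, coef_simple hΔ' hx, Finsupp.single_eq_same, smul_eq_mul, mul_one,
    Finsupp.finsetSum_apply] at h0
  have : (∑ l ∈ (coef hΔ x).support,
      coef hΔ x l * P.RootForm (P.root l) (P.root l) * t l * coef hΔ' (e l) x) = 0 :=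
    Finset.sum_eq_zero fun l hl => by
      have hel := heE l (coef_support hΔ x hl)
      rw [coef_simple hΔ' (hsub hel),
        Finsupp.single_eq_of_ne (fun h => hxE (h ▸ hel) : x ≠ e l), mul_zero]
  exact (rootForm_root_pos (P := P) x).ne' (h0.trans this)

end Groth.Agent.RootSys
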