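import Groth.Agent.RootSys.Simple

/-!
The Weyl group and systems of simple / positive roots.
-/

set_option autoImplicit false
set_option linter.unusedSectionVars false
set_option linter.unusedVariables false

namespace Groth.Agent.RootSys

open RootPairing Set

variable {ι R M N : Type*} [CommRing R] [CharZero R] [IsDomain R] [AddCommGroup M] [Module R M]
  [AddCommGroup N] [Module R N] {P : RootPairing ι R M N} {Δ : Set ι}

theorem mem_natSpan_smul (g : P.Aut) {S : Set ι} {x : M} (hx : x ∈ RootD.natSpan P S) :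
    g • x ∈ RootD.natSpan P ((fun i : ι => g • i) '' S) := by
  induction hx using AddSubmonoid.closure_induction with
  | mem y hy =>
    obtain ⟨i, hi, rfl⟩ := hy
    rw [← root_smul]
    exact AddSubmonoid.subset_closure (mem_image_of_mem _ (mem_image_of_mem _ hi))
  | zero => rw [smul_zero]; exact zero_mem _
  | add x y _ _ hx hy => rw [smul_add]; exact add_mem hx hy

theorem image_inv_image (g : P.Aut) (S : Set ι) :
    (fun i : ι => g⁻¹ • i) '' ((fun i : ι => g • i) '' S) = S := by
  rw [image_image]; simp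

theorem image_mul (g h : P.Aut) (S : Set ι) :
    (fun i : ι => (g * h) • i) '' S = (fun i : ι => g • i) '' ((fun i : ι => h • i) '' S) := by
  rw [image_image]
  exact image_congr fun i _ => mul_smul g h i

theorem smul_mem_posOf_image_iff (g : P.Aut) {S : Set ι} {k : ι} :
    g • k ∈ RootD.posOf P ((fun i : ι => g • i) '' S) ↔ k ∈ RootD.posOf P S := by
  constructor <;> intro h
  · have := mem_natSpan_smul g⁻¹ (show P.root (g • k) ∈ RootD.natSpan P _ from h)
    rw [image_inv_image, ← root_smul, inv_smul_smul] at this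
    exact this
  · change P.root _ ∈ RootD.natSpan P _
    rw [root_smul]
    exact mem_natSpan_smul g h

theorem posOf_image (g : P.Aut) (S : Set ι) :
    RootD.posOf P ((fun i : ι => g • i) '' S) = (fun i : ι => g • i) '' RootD.posOf P S := by
  ext k
  constructor
  · intro h
    exact ⟨g⁻¹ • k, (smul_mem_posOf_image_iff g).mp (by simpa using h), smul_inv_smul g k⟩
  · rintro ⟨j, hj, rfl⟩
    exact (smul_mem_posOf_image_iff g).mpr hj

theorem isSimpleSys_smul (g : P.Aut) (hΔ : RootD.IsSimpleSys P Δ) :
    RootD.IsSimpleSys P ((fun i : ι => g • i) '' Δ) where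
  linInd := by
    have h1 : LinearIndepOn R (fun i : ι => P.root (g • i)) Δ := by
      have : (fun i : ι => P.root (g • i)) =
          ⇑(RootPairing.Equiv.weightHom P g).toLinearMap ∘ P.root :=
        funext fun i => root_smul g i
      rw [this]
      exact LinearIndependent.map' hΔ.linInd _ (LinearEquiv.ker _)
    exact h1.image_of_comp (s := Δ) (fun i : ι => g • i) P.root
  mem_or_neg_mem k := by
    rcases hΔ.mem_or_neg_mem (g⁻¹ • k) with h | h
    · left
      have := mem_natSpan_smul g h
      rwa [← root_smul, smul_inv_smul] at this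
    · right
      have := mem_natSpan_smul g h
      rwa [smul_neg', ← root_smul, smul_inv_smul] at this

variable [P.IsCrystallographic]

/-- The product of the reflections along a word. -/
noncomputable def wordProd (P : RootPairing ι R M N) (l : List ι) : P.Aut :=
  (l.map fun a => RootPairing.Equiv.reflection P a).prod

omit [CharZero R] [IsDomain R] [P.IsCrystallographic] in
@[simp] theorem wordProd_cons (a : ι) (l : List ι) :
    wordProd P (a :: l) = RootPairing.Equiv.reflection P a * wordProd P l := by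
  simp [wordProd]

omit [CharZero R] [IsDomain R] [P.IsCrystallographic] in
theorem wordProd_append (l l' : List ι) :
    wordProd P (l ++ l') = wordProd P l * wordProd P l' := by
  simp [wordProd]

omit [CharZero R] [IsDomain R] [P.IsCrystallographic] in
theorem wordProd_reverse (l : List ι) : wordProd P l.reverse = (wordProd P l)⁻¹ := by
  induction l with
  | nil => simp [wordProd]
  | cons a l ih =>
    rw [List.reverse_cons, wordProd_append, ih]
    rw [show wordProd P [a] = RootPairing.Equiv.reflection P a by simp [wordProd], wordProd_cons]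
    rw [mul_inv_rev, RootPairing.Equiv.reflection_inv]

omit [CharZero R] [IsDomain R] [P.IsCrystallographic] in
theorem mem_closure_iff_word {S : Set ι} {g : P.Aut} :
    g ∈ Subgroup.closure ((fun i : ι => RootPairing.Equiv.reflection P i) '' S) ↔
      ∃ l : List ι, (∀ a ∈ l, a ∈ S) ∧ wordProd P l = g := by
  constructor
  · intro h
    induction h using Subgroup.closure_induction with
    | mem x hx =>
      obtain ⟨i, hi, rfl⟩ := hx
      exact ⟨[i], by simpa using hi, by simp [wordProd]⟩
    | one => exact ⟨[], by simp, by simp [wordProd]⟩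
    | mul x y _ _ hx hy =>
      obtain ⟨l, hl, rfl⟩ := hx
      obtain ⟨l', hl', rfl⟩ := hy
      exact ⟨l ++ l', fun a ha => (List.mem_append.mp ha).elim (hl a) (hl' a),
        wordProd_append l l'⟩
    | inv x _ hx =>
      obtain ⟨l, hl, rfl⟩ := hx
      exact ⟨l.reverse, fun a ha => hl a (List.mem_reverse.mp ha), wordProd_reverse l⟩
  · rintro ⟨l, hl, rfl⟩
    refine Subgroup.list_prod_mem _ fun x hx => ?_
    obtain ⟨a, ha, rfl⟩ := List.mem_map.mp hx
    exact Subgroup.subset_closure (mem_image_of_mem _ (hl a ha))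

variable [Finite ι] (hΔ : RootD.IsSimpleSys P Δ)
include hΔ

/-- Every indivisible root is conjugate to a simple root by the subgroup generated by simple
reflections. -/
theorem exists_conj_simple {k : ι} (hk : RootD.IsIndiv P k) :
    ∃ g ∈ Subgroup.closure ((fun i : ι => RootPairing.Equiv.reflection P i) '' Δ),
      ∃ i ∈ Δ, g • i = k := by
  have key : ∀ n : ℕ, ∀ k : ι, RootD.IsIndiv P k → k ∈ RootD.posOf P Δ → ht hΔ k < n →
      ∃ g ∈ Subgroup.closure ((fun i : ι => RootPairing.Equiv.reflection P i) '' Δ),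
        ∃ i ∈ Δ, g • i = k := by
    intro n
    induction n with
    | zero =>
      intro k _ hp hn
      have := one_le_ht hΔ hp
      omega
    | succ n ih =>
      intro k hk hp hn
      by_cases hkΔ : k ∈ Δ
      · exact ⟨1, one_mem _, k, hkΔ, one_smul _ k⟩
      obtain ⟨i, hi, _, _, hpos⟩ := exists_simple_pairing_pos hΔ hp
      have hne : k ≠ i := fun h => hkΔ (h ▸ hi)
      have hp' := refl_pos_of_indiv hΔ hi hp hk hne
      have hind : RootD.IsIndiv P (P.reflectionPerm i k) := by
        rw [← smul_index_reflection]; exact (isIndiv_smul_iff _ _).mpr hk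
      obtain ⟨g, hg, j, hj, hgj⟩ := ih _ hind hp' (by rw [ht_refl hΔ hi]; omega)
      refine ⟨RootPairing.Equiv.reflection P i * g,
        mul_mem (Subgroup.subset_closure (mem_image_of_mem _ hi)) hg, j, hj, ?_⟩
      rw [mul_smul, hgj, smul_index_reflection, reflectionPerm_self]
  rcases pos_or_neg hΔ k with h | h
  · exact key ((ht hΔ k).toNat + 1) k hk h (by omega)
  · obtain ⟨g, hg, i, hi, hgi⟩ :=
      key ((ht hΔ (P.reflectionPerm k k)).toNat + 1) _ (isIndiv_neg hk) h (by omega)
    refine ⟨g * RootPairing.Equiv.reflection P i,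
      mul_mem hg (Subgroup.subset_closure (mem_image_of_mem _ hi)), i, hi, ?_⟩
    rw [mul_smul, smul_index_reflection, smul_neg_index, hgi, neg_neg_index]

theorem closure_simple_eq_weylGroup :
    Subgroup.closure ((fun i : ι => RootPairing.Equiv.reflection P i) '' Δ) = P.weylGroup := by
  refine le_antisymm (Subgroup.closure_mono (image_subset_range _ _)) ?_
  refine (Subgroup.closure_le _).mpr ?_
  rintro _ ⟨k, rfl⟩
  obtain ⟨j, hj, _, he⟩ := exists_indiv_reflection (P := P) k
  obtain ⟨g, hg, i, hi, rfl⟩ := exists_conj_simple hΔ hj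
  rw [he, ← conj_reflection g i]
  exact mul_mem (mul_mem hg (Subgroup.subset_closure (mem_image_of_mem _ hi))) (inv_mem hg)

theorem exists_word {g : P.Aut} (hg : g ∈ P.weylGroup) :
    ∃ l : List ι, (∀ a ∈ l, a ∈ Δ) ∧ wordProd P l = g :=
  mem_closure_iff_word.mp ((closure_simple_eq_weylGroup hΔ).symm ▸ hg)

theorem exists_shorter (l : List ι) (hl : ∀ a ∈ l, a ∈ Δ) {a : ι} (ha : a ∈ Δ)
    (h : wordProd P l • a ∉ RootD.posOf P Δ) :
    ∃ l' : List ι, (∀ x ∈ l', x ∈ Δ) ∧ l'.length + 1 = l.length ∧
      wordProd P l' = wordProd P l * RootPairing.Equiv.reflection P a := by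
  induction l with
  | nil => exact absurd (by simpa [wordProd] using simple_pos hΔ ha) h
  | cons x l ih =>
    have hx : x ∈ Δ := hl x (List.mem_cons_self)
    have hl' : ∀ b ∈ l, b ∈ Δ := fun b hb => hl b (List.mem_cons_of_mem x hb)
    by_cases ht : wordProd P l • a ∈ RootD.posOf P Δ
    · have hind : RootD.IsIndiv P (wordProd P l • a) :=
        (isIndiv_smul_iff _ _).mpr (simple_indiv hΔ ha)
      have heq : wordProd P l • a = x := by
        by_contra hne
        refine h ?_
        rw [wordProd_cons, mul_smul, smul_index_reflection]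
        exact refl_pos_of_indiv hΔ hx ht hind hne
      have hxa := conj_reflection (wordProd P l) a
      rw [heq] at hxa
      refine ⟨l, hl', by simp, ?_⟩
      rw [wordProd_cons, ← hxa, inv_mul_cancel_right, mul_assoc, reflection_mul_self, mul_one]
    · obtain ⟨l', h1, h2, h3⟩ := ih hl' ht
      exact ⟨x :: l', fun b hb => (List.mem_cons.mp hb).elim (fun e => e ▸ hx) (h1 b),
        by simp; omega, by rw [wordProd_cons, wordProd_cons, h3, mul_assoc]⟩

/-- The last letter of a reduced word is sent to a negative root. -/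
theorem last_not_pos (l : List ι) (hl : ∀ a ∈ l, a ∈ Δ) (hne : l ≠ [])
    (hmin : ∀ l' : List ι, (∀ a ∈ l', a ∈ Δ) → wordProd P l' = wordProd P l →
      l.length ≤ l'.length) :
    wordProd P l • l.getLast hne ∉ RootD.posOf P Δ := by
  intro hpos
  set a := l.getLast hne with ha_def
  have hsplit : l.dropLast ++ [a] = l := List.dropLast_append_getLast hne
  have ha : a ∈ Δ := hl a (List.getLast_mem hne)
  have hprod : wordProd P l = wordProd P l.dropLast * RootPairing.Equiv.reflection P a := by
    conv_lhs => rw [← hsplit]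
    rw [wordProd_append]
    simp [wordProd]
  have h' : wordProd P l.dropLast • a ∉ RootD.posOf P Δ := by
    intro h'
    refine not_pos_and_neg hΔ h' ?_
    rw [← smul_neg_index]
    rw [hprod, mul_smul, smul_index_reflection] at hpos
    exact hpos
  obtain ⟨l', h1, h2, h3⟩ :=
    exists_shorter hΔ l.dropLast (fun x hx => hl x (List.dropLast_subset l hx)) ha h'
  have h4 := hmin l' h1 (by rw [h3, ← hprod])
  have h5 : l.dropLast.length + 1 = l.length := by
    rw [List.length_dropLast]
    have := List.length_pos_of_ne_nil hne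
    omega
  omega

/-- A Weyl group element mapping positive simple roots to positive roots is trivial. -/
theorem eq_one_of_pos {g : P.Aut} (hg : g ∈ P.weylGroup)
    (h : ∀ i ∈ Δ, g • i ∈ RootD.posOf P Δ) : g = 1 := by
  classical
  have hex : ∃ n, ∃ l : List ι, (∀ a ∈ l, a ∈ Δ) ∧ wordProd P l = g ∧ l.length = n := by
    obtain ⟨l, h1, h2⟩ := exists_word hΔ hg
    exact ⟨_, l, h1, h2, rfl⟩
  obtain ⟨l, h1, h2, h3⟩ := Nat.find_spec hex
  by_cases hne : l = []
  · subst hne; rw [← h2]; simp [wordProd]
  refine absurd (h _ (h1 _ (List.getLast_mem hne))) ?_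
  rw [← h2]
  refine last_not_pos hΔ l h1 hne fun l' h1' h2' => ?_
  rw [h3]
  exact Nat.find_le ⟨l', h1', h2'.trans h2, rfl⟩

theorem eq_one_of_image_eq {g : P.Aut} (hg : g ∈ P.weylGroup)
    (h : (fun i : ι => g • i) '' Δ = Δ) : g = 1 :=
  eq_one_of_pos hΔ hg fun i hi => simple_pos hΔ (h ▸ mem_image_of_mem _ hi)

/-- Some Weyl translate of the positive roots is contained in a given closed set of roots
containing each root or its opposite. -/
theorem exists_weyl_pos_subset {Q : Set ι} (hP2 : ∀ i : ι, i ∈ Q ∨ P.reflectionPerm i i ∈ Q)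
    (hcl : RootD.IsClosedSub P Q) :
    ∃ g ∈ P.weylGroup, (fun i : ι => g • i) '' RootD.posOf P Δ ⊆ Q := by
  suffices key : ∀ n : ℕ, ∀ g ∈ P.weylGroup,
      (((fun i : ι => g • i) '' RootD.posOf P Δ) \ Q).ncard ≤ n →
      ∃ g ∈ P.weylGroup, (fun i : ι => g • i) '' RootD.posOf P Δ ⊆ Q from
    key _ 1 (one_mem _) le_rfl
  intro n
  induction n with
  | zero =>
    intro g hg hn
    refine ⟨g, hg, sdiff_eq_empty.mp ?_⟩
    rw [← Set.ncard_eq_zero (Set.toFinite _)]
    omega
  | succ n ih =>
    intro g hg hn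
    have hΔ' := isSimpleSys_smul g hΔ
    rw [← posOf_image] at hn
    set Δ' := (fun i : ι => g • i) '' Δ with hΔ'def
    by_cases hsub : Δ' ⊆ Q
    · exact ⟨g, hg, by rw [← posOf_image]; exact posOf_subset hΔ' hsub hcl⟩
    obtain ⟨d, hd, hdQ⟩ := not_subset.mp hsub
    refine ih (RootPairing.Equiv.reflection P d * g)
      (mul_mem (P.reflection_mem_weylGroup d) hg) ?_
    rw [image_mul, ← posOf_image g Δ, ← hΔ'def]
    set T := (fun i : ι => RootPairing.Equiv.reflection P d • i) '' RootD.posOf P Δ'
    have hnd : P.reflectionPerm d d ∈ Q := (hP2 d).resolve_left hdQ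
    have hsubset : T \ Q ⊆ (RootD.posOf P Δ' \ Q) \ {d} := by
      rintro k ⟨⟨t, ht, rfl⟩, hkQ⟩
      simp only [smul_index_reflection] at hkQ ⊢
      by_cases h1 : t = d
      · exact absurd (h1 ▸ hnd) hkQ
      by_cases h2 : P.root t = (2 : ℤ) • P.root d
      · refine absurd ?_ hkQ
        refine hcl hnd hnd ?_
        rw [root_neg, root_refl]
        have : P.pairingIn ℤ t d = 4 := by
          have := congrArg (P.coroot' d) h2
          rw [map_zsmul, coroot'_root, coroot'_root, zsmul_eq_mul, pairingIn_same] at this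
          norm_cast at this
        rw [h2, this]; module
      have hp := refl_pos hΔ' hd ht h1 h2
      refine ⟨⟨hp, hkQ⟩, fun h3 => ?_⟩
      have h4 : t = P.reflectionPerm d d :=
        calc t = P.reflectionPerm d (P.reflectionPerm d t) := (reflectionPerm_self P d t).symm
          _ = P.reflectionPerm d d := congrArg _ h3
      exact not_pos_and_neg hΔ' (simple_pos hΔ' hd) (h4 ▸ ht)
    have h5 := Set.ncard_le_ncard hsubset (Set.toFinite _)
    have h6 := Set.ncard_sdiff_singleton_lt_of_mem (a := d)
      (show d ∈ RootD.posOf P Δ' \ Q from ⟨simple_pos hΔ' hd, hdQ⟩) (Set.toFinite _)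
    omega

theorem exists_weyl_eq {Q : Set ι} (hP1 : ∀ i ∈ Q, P.reflectionPerm i i ∉ Q)
    (hP2 : ∀ i : ι, i ∈ Q ∨ P.reflectionPerm i i ∈ Q) (hcl : RootD.IsClosedSub P Q) :
    ∃ g ∈ P.weylGroup, RootD.posOf P ((fun i : ι => g • i) '' Δ) = Q := by
  obtain ⟨g, hg, hsub⟩ := exists_weyl_pos_subset hΔ hP2 hcl
  rw [← posOf_image] at hsub
  refine ⟨g, hg, hsub.antisymm fun k hk => ?_⟩
  rcases pos_or_neg (isSimpleSys_smul g hΔ) k with h | h
  · exact h
  · exact absurd (hsub h) (hP1 k hk)

theorem isPosSys_of_closed {Q : Set ι} (hP1 : ∀ i ∈ Q, P.reflectionPerm i i ∉ Q)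
    (hP2 : ∀ i : ι, i ∈ Q ∨ P.reflectionPerm i i ∈ Q) (hcl : RootD.IsClosedSub P Q) :
    RootD.IsPosSys P Q := by
  obtain ⟨g, _, rfl⟩ := exists_weyl_eq hΔ hP1 hP2 hcl
  exact posOf_isPosSys (isSimpleSys_smul g hΔ)

theorem exists_weyl_simple {Δ' : Set ι} (hΔ' : RootD.IsSimpleSys P Δ') :
    ∃ g ∈ P.weylGroup, (fun i : ι => g • i) '' Δ = Δ' := by
  have h := posOf_isPosSys hΔ'
  obtain ⟨g, hg, hQ⟩ := exists_weyl_eq hΔ h.disjoint h.cover (isClosedSub_of_isPosSys h)
  exact ⟨g, hg, eq_of_posOf_eq (isSimpleSys_smul g hΔ) hΔ' hQ⟩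

theorem existsUnique_weyl_simple {Δ' : Set ι} (hΔ' : RootD.IsSimpleSys P Δ') :
    ∃! g : P.weylGroup, (fun i : ι => (g : P.Aut) • i) '' Δ = Δ' := by
  obtain ⟨g, hg, hgΔ⟩ := exists_weyl_simple hΔ hΔ'
  refine ⟨⟨g, hg⟩, hgΔ, fun h hh => Subtype.ext ?_⟩
  have h1 : g⁻¹ * (h : P.Aut) = 1 := by
    refine eq_one_of_image_eq hΔ (mul_mem (inv_mem hg) h.2) ?_
    rw [image_mul, hh, ← hgΔ, image_inv_image]
  exact (inv_mul_eq_one.mp h1).symm

omit hΔ in
/-- A Weyl element is determined by its permutation of the roots. -/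
theorem weylGroupToPerm_inj : Function.Injective P.weylGroupToPerm := by
  rw [injective_iff_map_eq_one]
  rintro ⟨g, hg⟩ hperm
  refine Subtype.ext (weyl_eq_one_of_fix hg fun i => ?_)
  exact congrArg (fun f : ι ≃ ι => f i) hperm

end Groth.Agent.RootSys
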